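import Cfsg.Agent.Lib.Helper22.TB0
import Cfsg.Agent.Lib.Helper33.FRChar

/-! # A central element acts on the lattice `latt c` by a scalar (piece LC of the defect-one
project of helper22) -/

set_option autoImplicit false

namespace Cfsg.Agent.Lib.Helper2.DO

open Cfsg Cfsg.Agent.Lib.Helper4 Cfsg.Agent.Lib.Helper21 Cfsg.Agent.Lib.Helper22
  Cfsg.Agent.Lib.Helper33 Cfsg.Agent.Lib.Helper22.TB
open scoped ComplexConjugate

variable {G : Type*} [Group G] [Fintype G]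

theorem lc_cast_convZ (a b : G → ℤ) (g : G) :
    ((convZ a b g : ℤ) : ℂ) = conv (fun x => (a x : ℂ)) (fun x => (b x : ℂ)) g := by
  rw [convZ_apply, conv_apply]
  push_cast
  rfl

theorem lc_conv_smul_right (k : ℂ) (a b : G → ℂ) : conv a (k • b) = k • conv a b := by
  funext g
  simp only [conv_apply, Pi.smul_apply, smul_eq_mul, Finset.mul_sum]
  exact Finset.sum_congr rfl fun h _ => by ring

theorem lc_conv_sum_right {ι : Type*} (s : Finset ι) (a : G → ℂ) (f : ι → G → ℂ) :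
    conv a (∑ i ∈ s, f i) = ∑ i ∈ s, conv a (f i) := by
  funext g
  simp only [conv_apply, Finset.sum_apply, Finset.mul_sum]
  exact Finset.sum_comm

theorem latt_central (S : Finset (Cfsg.IrrCharacter G)) (c : G → ℤ)
    (hc : ∀ g, (c g : ℂ) = ∑ ψ ∈ S, (ψ : G → ℂ) 1 * (ψ : G → ℂ) g⁻¹)
    (d : ℕ) (hd : ∀ ψ ∈ S, (ψ : G → ℂ) 1 = (d : ℂ))
    (w : G → ℤ) (hw : ∀ g h : G, w (h * g * h⁻¹) = w g)
    (s : ℤ) (hs : ∀ ψ ∈ S, ∑ g, (w g : ℂ) * (ψ : G → ℂ) g = (s : ℂ)) :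
    (d : ℤ) • ∑ g : G, w g • lrep c g = s • (1 : ↥(latt c) →ₗ[ℤ] ↥(latt c)) := by
  classical
  obtain ⟨W, hW⟩ : ∃ W : G → ℂ, W = fun x => (w x : ℂ) := ⟨_, rfl⟩
  obtain ⟨C, hC⟩ : ∃ C : G → ℂ, C = fun x => (c x : ℂ) := ⟨_, rfl⟩
  have hWcl : IsClassFunction G W := by
    intro g h
    rw [hW]
    simp only
    rw [hw g h]
  have hCsum : C = ∑ ψ ∈ S, ((ψ : G → ℂ) 1) • (fun u => conj ((ψ : G → ℂ) u)) := by
    funext g
    rw [hC]
    simp only [Finset.sum_apply, Pi.smul_apply, smul_eq_mul]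
    rw [hc g]
    exact Finset.sum_congr rfl fun ψ _ => by rw [irr_inv ψ g]
  have hkey : (d : ℂ) • conv W C = (s : ℂ) • C := by
    rw [hCsum, lc_conv_sum_right, Finset.smul_sum, Finset.smul_sum]
    refine Finset.sum_congr rfl fun ψ hψ => ?_
    have hWs : ∑ g, W g * (ψ : G → ℂ) g = (s : ℂ) := by
      rw [hW]
      exact hs ψ hψ
    rw [lc_conv_smul_right, conv_conj_irr W hWcl ψ, omega_def, hWs, hd ψ hψ]
    have hd0 : (d : ℂ) ≠ 0 := by
      rw [← hd ψ hψ]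
      exact irr_one_ne_zero ψ
    funext g
    simp only [Pi.smul_apply, smul_eq_mul]
    field_simp
  ext u x
  have hu : convZ (u : G → ℤ) c = (Nat.card G : ℤ) • (u : G → ℤ) := u.2
  obtain ⟨U, hU⟩ : ∃ U : G → ℂ, U = fun x => ((u : G → ℤ) x : ℂ) := ⟨_, rfl⟩
  have hUC : conv U C = (Nat.card G : ℂ) • U := by
    funext g
    have h1 := congrFun hu g
    have h2 := lc_cast_convZ (u : G → ℤ) c g
    rw [h1] at h2
    rw [hU, hC]
    simp only [Pi.smul_apply, smul_eq_mul] at h2 ⊢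
    rw [← h2]
    push_cast
    rfl
  have hL : (((d : ℤ) • ∑ g : G, w g • lrep c g) u : G → ℤ) x =
      (d : ℤ) * ∑ g, w g * (u : G → ℤ) (g⁻¹ * x) := by
    simp [LinearMap.sum_apply, lrep_apply]
    rw [Finset.mul_sum]
    exact Finset.sum_congr rfl fun g _ => by ring
  have hR : ((s • (1 : ↥(latt c) →ₗ[ℤ] ↥(latt c))) u : G → ℤ) x = s * (u : G → ℤ) x := by
    simp
  rw [hL, hR]
  have hG : (Nat.card G : ℂ) ≠ 0 := by exact_mod_cast (Nat.card_pos (α := G)).ne'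
  have main : (Nat.card G : ℂ) • ((d : ℂ) • conv W U) = (Nat.card G : ℂ) • ((s : ℂ) • U) := by
    calc (Nat.card G : ℂ) • ((d : ℂ) • conv W U)
        = (d : ℂ) • conv W ((Nat.card G : ℂ) • U) := by
          rw [lc_conv_smul_right, smul_comm]
      _ = (d : ℂ) • conv W (conv U C) := by rw [hUC]
      _ = (d : ℂ) • conv (conv W U) C := by rw [conv_assoc]
      _ = (d : ℂ) • conv (conv U W) C := by rw [conv_comm_of_isClassFunction W U hWcl]
      _ = (d : ℂ) • conv U (conv W C) := by rw [conv_assoc]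
      _ = conv U ((d : ℂ) • conv W C) := by rw [lc_conv_smul_right]
      _ = conv U ((s : ℂ) • C) := by rw [hkey]
      _ = (s : ℂ) • conv U C := by rw [lc_conv_smul_right]
      _ = (Nat.card G : ℂ) • ((s : ℂ) • U) := by rw [hUC, smul_comm]
  have main2 := congrFun main x
  simp only [Pi.smul_apply, smul_eq_mul] at main2
  have main3 := mul_left_cancel₀ hG main2
  rw [conv_apply, hW, hU] at main3
  have h4 : (((d : ℤ) * ∑ g, w g * (u : G → ℤ) (g⁻¹ * x) : ℤ) : ℂ) =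
      ((s * (u : G → ℤ) x : ℤ) : ℂ) := by
    push_cast
    exact main3
  exact_mod_cast h4

end Cfsg.Agent.Lib.Helper2.DO
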