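import Mathlib

set_option autoImplicit false

/-!
# The arithmetic lemma (L-num) for helper15's class-equation proof of Dickson's theorem (helper2)
-/

namespace Cfsg.Agent.Lib.Helper2

/-- (L-num), integer core: `n = b X`, `q - 1 = a j`, `s - 1 = a t`. -/
theorem dickson_num_core (q a b n s j t X : ℤ) (hq3 : 3 ≤ q) (ha : 2 ≤ a) (hb : 2 ≤ b)
    (hn : n = 1 + q * s) (hj : q - 1 = a * j) (ht : s - 1 = a * t) (ht0 : 0 ≤ t) (hX : n = b * X)
    (heq : b * (n * q - 2 * n + 2) = n * q * a) :
    s = 1 ∨ (q = 3 ∧ a = 2 ∧ n = 10 ∧ b = 5) := by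
  have hb0 : b ≠ 0 := by omega
  have ha0 : a ≠ 0 := by omega
  have hq0 : q ≠ 0 := by omega
  -- `n (q - 2) + 2 = a X q`
  have e1 : n * (q - 2) + 2 = a * X * q := by
    have : b * (n * (q - 2) + 2) = b * (a * X * q) := by
      rw [hX] at heq ⊢
      linarith [heq]
    exact mul_left_cancel₀ hb0 this
  -- `X (a q - b (q - 2)) = 2`
  have e2 : X * (a * q - b * (q - 2)) = 2 := by
    rw [hX] at e1
    linarith [e1]
  -- `X = j + t (q - 2)`
  have e3 : X = j + t * (q - 2) := by
    have hs : s = 1 + a * t := by linarith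
    have h1 : a * q * X = a * q * (j + t * (q - 2)) := by
      have : n = 1 + q + q * a * t := by rw [hn, hs]; ring
      rw [this] at e1
      have hq1 : q = a * j + 1 := by linarith
      calc a * q * X = (1 + q + q * a * t) * (q - 2) + 2 := by linarith [e1]
        _ = q * (q - 1) + q * a * t * (q - 2) := by ring
        _ = q * (a * j) + q * a * t * (q - 2) := by rw [hj]
        _ = a * q * (j + t * (q - 2)) := by ring
    exact mul_left_cancel₀ (mul_ne_zero ha0 hq0) h1
  have hjpos : 1 ≤ j := by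
    by_contra h
    push Not at h
    have : a * j ≤ 0 := mul_nonpos_of_nonneg_of_nonpos (by omega) (by omega)
    omega
  have hXpos : 1 ≤ X := by
    rw [e3]
    have : 0 ≤ t * (q - 2) := mul_nonneg ht0 (by omega)
    omega
  -- `X ≤ 2`
  have hX2 : X ≤ 2 := by
    have hd : X ∣ 2 := ⟨_, e2.symm⟩
    exact Int.le_of_dvd (by norm_num) hd
  rcases eq_or_lt_of_le ht0 with h0 | hpos
  · left
    rw [← h0] at ht
    linarith
  · right
    have ht1 : 1 ≤ t := hpos
    have h5 : t * 1 ≤ t * (q - 2) := mul_le_mul_of_nonneg_left (by omega) ht0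
    have hX' : X = 2 := by omega
    have hj1 : j = 1 := by omega
    have htq : t * (q - 2) = 1 := by omega
    have ht1' : t = 1 := by
      have : t ≤ t * (q - 2) := by linarith
      omega
    have hq : q = 3 := by
      rw [ht1'] at htq; omega
    have ha2 : a = 2 := by
      rw [hj1, hq] at hj; omega
    have hs3 : s = 3 := by
      rw [ht1', ha2] at ht; omega
    have hn10 : n = 10 := by rw [hn, hq, hs3]; norm_num
    have hb5 : b = 5 := by
      rw [hn10, hX'] at hX; omega
    exact ⟨hq, ha2, hn10, hb5⟩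

/-- (L-num) as stated in helper15's plan (natural numbers, truncated subtraction). -/
theorem dickson_num (q k n e s : ℕ) (hq3 : 3 ≤ q) (hk : Even k) (hk4 : 4 ≤ k) (he : Even e)
    (he4 : 4 ≤ e) (hn : n = 1 + q * s) (hs : 1 ≤ s) (h1 : k / 2 ∣ q - 1) (h2 : k / 2 ∣ s - 1)
    (h3 : e / 2 ∣ n) (heq : e * (n * q - 2 * n + 2) = n * q * k) :
    s = 1 ∨ (q = 3 ∧ k = 4 ∧ n = 10 ∧ e = 10) := by
  obtain ⟨a, rfl⟩ := hk
  obtain ⟨b, rfl⟩ := he
  have ha2 : (a + a) / 2 = a := by omega
  have hb2 : (b + b) / 2 = b := by omega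
  rw [ha2] at h1 h2
  rw [hb2] at h3
  obtain ⟨j, hj⟩ := h1
  obtain ⟨t, ht⟩ := h2
  obtain ⟨X, hX⟩ := h3
  have hnq : 2 * n ≤ n * q := by nlinarith
  have key := dickson_num_core (q : ℤ) a b n s j t X (by exact_mod_cast hq3) (by omega) (by omega)
    (by exact_mod_cast hn)
    (by
      have : (q : ℤ) - 1 = ((q - 1 : ℕ) : ℤ) := by omega
      rw [this, hj]; push_cast; ring)
    (by
      have : (s : ℤ) - 1 = ((s - 1 : ℕ) : ℤ) := by omega
      rw [this, ht]; push_cast; ring)
    (by positivity) (by exact_mod_cast hX)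
    (by
      have h5 : ((n * q - 2 * n + 2 : ℕ) : ℤ) = (n : ℤ) * q - 2 * n + 2 := by
        rw [Nat.cast_add, Nat.cast_sub hnq]; push_cast; ring
      have h6 : ((b + b : ℕ) : ℤ) * ((n * q - 2 * n + 2 : ℕ) : ℤ) = ((n * q * (a + a) : ℕ) : ℤ) := by
        exact_mod_cast heq
      rw [h5] at h6
      push_cast at h6
      linarith [h6])
  rcases key with h | ⟨h1, h2, h3, h4⟩
  · left; exact_mod_cast h
  · right
    refine ⟨by exact_mod_cast h1, ?_, by exact_mod_cast h3, ?_⟩
    · have : a = 2 := by exact_mod_cast h2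
      omega
    · have : b = 5 := by exact_mod_cast h4
      omega

end Cfsg.Agent.Lib.Helper2
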