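import Mathlib
import Cfsg.Agent.Lib.Helper22.HPDefs
import Cfsg.Agent.Lib.Helper83.IrrBasic
import Cfsg.Agent.Lib.Helper87.BFFIDX
import Cfsg.Agent.Lib.Helper64.HPMOMA

/-!
# S4504 / HP-MOMENT, sub-piece J1 = MOM-CARD: `|C_G(z)| = p |Z(G)|` and
`|N_G(⟨z⟩)| = p |Sq| |Z(G)|`.
-/

set_option autoImplicit false
set_option linter.unusedSectionVars false

namespace Cfsg.Agent.Lib.Helper2.HPT

open Cfsg Cfsg.Agent.Lib.Helper22.BFD Cfsg.Agent.Lib.Helper22.HPD Cfsg.Agent.Lib.Helper64.HPT
open scoped ComplexConjugate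

universe u

variable {G : Type u} [Group G] [Fintype G]

/-- `|C_G(z)| = p |Z(G)|` -/
theorem mom_card_cent (p : ℕ) [Fact p.Prime]
    (hnn : ∀ H : Subgroup G, H.Normal → Nat.card H ≠ p) (χ : G → ℂ) (z : G) (ζ : ℂ)
    (hHP : HP p ζ z χ) :
    Nat.card (Subgroup.centralizer ({z} : Set G)) = p * Nat.card (Subgroup.center G) := by
  have hzp : z ^ p = 1 := by rw [← hHP.hz]; exact pow_orderOf_eq_one z
  have hmem : ∀ (t : ZMod p) (u : Subgroup.center G),
      z ^ t.val * (u : G) ∈ Subgroup.centralizer ({z} : Set G) := by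
    intro t u
    rw [Subgroup.mem_centralizer_iff]
    intro y hy
    rw [Set.mem_singleton_iff] at hy
    rw [hy]
    have hu : z * (u : G) = (u : G) * z := Subgroup.mem_center_iff.mp u.2 z
    calc z * (z ^ t.val * (u : G)) = z ^ t.val * (z * (u : G)) := by
          rw [← mul_assoc, ← mul_assoc, ← pow_succ', ← pow_succ]
      _ = z ^ t.val * ((u : G) * z) := by rw [hu]
      _ = z ^ t.val * (u : G) * z := by rw [mul_assoc]
  obtain ⟨f, hf⟩ : ∃ f : ZMod p × Subgroup.center G → Subgroup.centralizer ({z} : Set G),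
      ∀ q, ((f q : Subgroup.centralizer ({z} : Set G)) : G) = z ^ q.1.val * (q.2 : G) :=
    ⟨fun q => ⟨z ^ q.1.val * (q.2 : G), hmem q.1 q.2⟩, fun q => rfl⟩
  have hinj : Function.Injective f := by
    rintro ⟨a, u⟩ ⟨b, u₂⟩ h
    have h0 : z ^ a.val * (u : G) = z ^ b.val * (u₂ : G) := by
      have := congrArg Subtype.val h
      rw [hf, hf] at this
      exact this
    have ha := ZMod.val_lt a
    have hb := ZMod.val_lt b
    have hinv : z ^ (p - b.val) = (z ^ b.val)⁻¹ := by
      apply eq_inv_of_mul_eq_one_left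
      rw [← pow_add, Nat.sub_add_cancel hb.le, hzp]
    have h1 : z ^ a.val = z ^ b.val * ((u₂ : G) * (u : G)⁻¹) := by
      rw [← mul_assoc, ← h0, mul_inv_cancel_right]
    have hj : z ^ (a.val + (p - b.val))
        = z ^ b.val * ((u₂ : G) * (u : G)⁻¹) * (z ^ b.val)⁻¹ := by
      rw [pow_add, hinv, h1]
    have hc : z ^ (a.val + (p - b.val)) ∈ Subgroup.center G := by
      rw [hj]
      exact (inferInstance : (Subgroup.center G).Normal).conj_mem _
        (mul_mem u₂.2 (inv_mem u.2)) _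
    have hdvd := mom_pow_center p hnn z hHP.hz _ hc
    have hab : a.val = b.val := by
      obtain ⟨k, hk⟩ := hdvd
      have hk1 : k = 1 := by
        rcases k with _ | _ | k
        · omega
        · rfl
        · exfalso
          have h2 : p * 2 ≤ p * (k + 1 + 1) := Nat.mul_le_mul_left p (by omega)
          omega
      rw [hk1] at hk
      omega
    have hab' : a = b := ZMod.val_injective p hab
    subst hab'
    have hu : (u : G) = u₂ := mul_left_cancel h0
    exact Prod.ext rfl (Subtype.ext hu)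
  have hsurj : Function.Surjective f := by
    rintro ⟨g, hg⟩
    have hgz : g * z = z * g := ((Subgroup.mem_centralizer_iff.mp hg) z rfl).symm
    obtain ⟨t, u, hu, rfl⟩ := hHP.hC g hgz
    refine ⟨(t, ⟨u, hu⟩), Subtype.ext ?_⟩
    rw [hf]
  rw [← Nat.card_congr (Equiv.ofBijective f ⟨hinj, hsurj⟩), Nat.card_prod, Nat.card_zmod]

/-- `|N_G(⟨z⟩)| = p |Sq| |Z(G)|` -/
theorem mom_card_norm (p : ℕ) [Fact p.Prime]
    (hnn : ∀ H : Subgroup G, H.Normal → Nat.card H ≠ p) (χ : G → ℂ) (z : G) (ζ : ℂ)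
    (hHP : HP p ζ z χ) :
    Nat.card (Subgroup.normalizer ((Subgroup.zpowers z : Subgroup G) : Set G)) =
      p * (Sq p).card * Nat.card (Subgroup.center G) := by
  have hC := mom_card_cent p hnn χ z ζ hHP
  have hle := Cfsg.Agent.Lib.Helper87.BFT.h87_cent_le_norm z
  have hidx := Cfsg.Agent.Lib.Helper87.BFT.fidx p z hHP.hz
  have hEf : Ef p z = Sq p := by
    ext k
    simp only [Ef, Finset.mem_filter, Finset.mem_univ, true_and]
    exact hHP.hE k
  have h1 := Subgroup.relIndex_mul_relIndex _ _ _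
    (bot_le : (⊥ : Subgroup G) ≤ Subgroup.centralizer ({z} : Set G)) hle
  rw [Subgroup.relIndex_bot_left, Subgroup.relIndex_bot_left, hidx, hEf, hC] at h1
  rw [← h1]; ring

end Cfsg.Agent.Lib.Helper2.HPT
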