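import Cfsg.Agent.S1985
import Cfsg.Agent.Lib.Helper87.Model
import Cfsg.Agent.Lib.Helper2.RadB
import Cfsg.Agent.Lib.Helper2.DirFac

/-!
# The lower K-infinity functor: hypotheses of the central control theorem, and the direct factor

The four hypotheses (positivity, isomorphism invariance, containing the centre, the local centre
condition for odd `p`) of the statement "a functor with the local centre condition controls weak
closure of elements in fusion systems", for the lower K-infinity functor; and the resulting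
reduction of "for odd `p`, `Z(F)` is a direct factor of `Z(S)`" to that statement.
-/

set_option autoImplicit false

namespace Cfsg.Agent.Lib.Helper2.KInfC

open Cfsg Cfsg.FusionSystem

universe u

variable {p : ℕ} [Fact p.Prime]

theorem kInfLower_hW1 : ∀ (Q : Type u) [Group Q] [Finite Q], IsPGroup p Q → Nontrivial Q →
    Cfsg.kInfLower Q ≠ ⊥ :=
  (Cfsg.Agent.Lib.Helper42.isCharPFunctor_kInfLower p).1

theorem kInfLower_hW2 : ∀ (Q R : Type u) [Group Q] [Group R] [Finite Q], IsPGroup p Q →
    ∀ φ : Q ≃* R, (Cfsg.kInfLower Q).map φ.toMonoidHom = Cfsg.kInfLower R :=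
  (Cfsg.Agent.Lib.Helper42.isCharPFunctor_kInfLower p).2

theorem kInfLower_hWZ : ∀ (Q : Type u) [Group Q] [Finite Q], IsPGroup p Q →
    Subgroup.center Q ≤ Cfsg.kInfLower Q :=
  fun _ _ _ hQ => (Cfsg.Agent.Lib.Helper42.center_le_kInf hQ).1

/-- The local centre condition for the lower K-infinity functor, `p` odd. -/
theorem kInfLower_hC (hp : p ≠ 2) : ∀ (G : Type u) [Group G] [Finite G] (P : Sylow p G),
    Cfsg.pCore p G ⊓ Subgroup.center G = Cfsg.pCore p G ⊓
      (Subgroup.center ↥(Subgroup.normalizer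
        (((Cfsg.kInfLower ↥(P : Subgroup G)).map (P : Subgroup G).subtype : Subgroup G) :
          Set G))).map
        (Subgroup.normalizer
          (((Cfsg.kInfLower ↥(P : Subgroup G)).map (P : Subgroup G).subtype : Subgroup G) :
            Set G)).subtype := by
  intro G _ _ P
  have hOn : (Cfsg.pCore p G).Normal := Cfsg.Agent.Lib.Helper87.pCore_normal_inst p G
  ext x
  constructor
  · rintro ⟨hxO, hxZ⟩
    have hxZ' : x ∈ Subgroup.center G := hxZ
    have hxN : x ∈ Subgroup.normalizer
        (((Cfsg.kInfLower ↥(P : Subgroup G)).map (P : Subgroup G).subtype : Subgroup G) :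
          Set G) := by
      rw [Subgroup.mem_normalizer_iff]
      intro h
      have : x * h * x⁻¹ = h := by
        rw [← (Subgroup.mem_center_iff.mp hxZ' h), mul_inv_cancel_right]
      rw [this]
    refine ⟨hxO, ⟨x, hxN⟩, ?_, rfl⟩
    show (⟨x, hxN⟩ : ↥(Subgroup.normalizer _)) ∈ Subgroup.center _
    rw [Subgroup.mem_center_iff]
    intro g
    exact Subtype.ext (Subgroup.mem_center_iff.mp hxZ' g)
  · rintro ⟨hxO, ⟨x', hx'N⟩, hcen, rfl⟩
    have hcen' : (⟨x', hx'N⟩ : ↥(Subgroup.normalizer
        (((Cfsg.kInfLower ↥(P : Subgroup G)).map (P : Subgroup G).subtype : Subgroup G) :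
          Set G))) ∈ Subgroup.center _ := hcen
    refine ⟨hxO, ?_⟩
    show x' ∈ Subgroup.center G
    have hxO' : x' ∈ Cfsg.pCore p G := hxO
    obtain ⟨-, T, -, hT, hidx, hwc⟩ := Cfsg.Agent.S1985.result (G := G) (p := p) hp
    have hWf := Cfsg.Agent.Lib.Helper42.isConjugacyFunctor_induced
      (Cfsg.Agent.Lib.Helper42.isCharPFunctor_kInfLower p) G
    -- `T` is a Sylow subgroup, conjugate to `P`
    rw [Subgroup.relIndex_top_right] at hidx
    obtain ⟨g, hg⟩ := MulAction.exists_smul_eq G P (hT.toSylow hidx)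
    have hTP : T = (P : Subgroup G).map (MulAut.conj g).toMonoidHom := by
      have h1 : ((g • P : Sylow p G) : Subgroup G) = T := by rw [hg]; rfl
      rw [← h1]
      rfl
    have hWT : Cfsg.inducedFunctor Cfsg.kInfLower T =
        (Cfsg.inducedFunctor Cfsg.kInfLower (P : Subgroup G)).map (MulAut.conj g).toMonoidHom := by
      rw [hTP]
      exact (hWf (P : Subgroup G) P.isPGroup').2.2 g
    have hOT : Cfsg.pCore p G ≤ T := by
      have := (Cfsg.Agent.Lib.Helper2.Rad.isPGroup_pCore p G).le_sylow_of_normal (hT.toSylow hidx)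
      exact this
    -- the conjugate `g x' g⁻¹` is weakly closed in `T`
    have hx'' : g * x' * g⁻¹ ∈ T ⊓ Subgroup.centralizer
        (((⊤ : Subgroup G) ⊓ Subgroup.normalizer
          ((Cfsg.inducedFunctor Cfsg.kInfLower T : Subgroup G) : Set G) : Subgroup G) : Set G) := by
      refine ⟨hOT (hOn.conj_mem x' hxO' g), Subgroup.mem_centralizer_iff.mpr ?_⟩
      rintro n ⟨-, hn⟩
      have hn' : n ∈ Subgroup.normalizer
          ((Cfsg.inducedFunctor Cfsg.kInfLower T : Subgroup G) : Set G) := hn
      -- `g⁻¹ n g` normalizes `W(P)`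
      have hn2 : g⁻¹ * n * g ∈ Subgroup.normalizer
          (((Cfsg.kInfLower ↥(P : Subgroup G)).map (P : Subgroup G).subtype : Subgroup G) :
            Set G) := by
        rw [Subgroup.mem_normalizer_iff]
        intro h
        have h3 := (Subgroup.mem_normalizer_iff.mp hn') (g * h * g⁻¹)
        rw [hWT] at h3
        have e1 : ∀ y : G, g * y * g⁻¹ ∈
            (Cfsg.inducedFunctor Cfsg.kInfLower (P : Subgroup G)).map
              (MulAut.conj g).toMonoidHom ↔
            y ∈ Cfsg.inducedFunctor Cfsg.kInfLower (P : Subgroup G) := by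
          intro y
          constructor
          · rintro ⟨w, hw, hwy⟩
            have hwy' : g * w * g⁻¹ = g * y * g⁻¹ := hwy
            have : w = y := by
              have := congrArg (fun t => g⁻¹ * t * g) hwy'
              simpa [mul_assoc] using this
            rw [← this]
            exact hw
          · intro hy
            exact ⟨y, hy, rfl⟩
        have e2 : n * (g * h * g⁻¹) * n⁻¹ = g * (g⁻¹ * n * g * h * (g⁻¹ * n * g)⁻¹) * g⁻¹ := by
          group
        rw [e1, e2, e1] at h3
        exact h3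
      have h4 := Subgroup.mem_center_iff.mp hcen' ⟨g⁻¹ * n * g, hn2⟩
      have h5 : g⁻¹ * n * g * x' = x' * (g⁻¹ * n * g) := congrArg Subtype.val h4
      calc n * (g * x' * g⁻¹) = g * (g⁻¹ * n * g * x') * g⁻¹ := by group
        _ = g * (x' * (g⁻¹ * n * g)) * g⁻¹ := by rw [h5]
        _ = g * x' * g⁻¹ * n := by group
    have hfix : ∀ h : G, h * (g * x' * g⁻¹) * h⁻¹ = g * x' * g⁻¹ := by
      intro h
      apply hwc _ hx'' h (Subgroup.mem_top h)
      have : h * (g * x' * g⁻¹) * h⁻¹ = (h * g) * x' * (h * g)⁻¹ := by group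
      rw [this]
      exact hOT (hOn.conj_mem x' hxO' (h * g))
    rw [Subgroup.mem_center_iff]
    intro h
    have h6 := hfix (g * h * g⁻¹)
    have h7 : g * h * g⁻¹ * (g * x' * g⁻¹) * (g * h * g⁻¹)⁻¹ = g * (h * x' * h⁻¹) * g⁻¹ := by
      group
    rw [h7] at h6
    have h8 : h * x' * h⁻¹ = x' := by
      have := congrArg (fun t => g⁻¹ * t * g) h6
      simpa [mul_assoc] using this
    calc h * x' = (h * x' * h⁻¹) * h := by group
      _ = x' * h := by rw [h8]

/-- Reduction of "`Z(F)` is a direct factor of `Z(S)` for odd `p`" to the control of weak closure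
of elements by the lower K-infinity functor. -/
theorem directFactor_of_kInfLower_control {Ω : Type u} [Group Ω] {S : Subgroup Ω} [Finite S]
    (hS : IsPGroup p S) (F : FusionSystem S) (hF : F.IsSaturated p)
    (hctl : ∀ N : FusionSystem (normalizerIn S ((Cfsg.kInfLower ↥S).map S.subtype)),
      F.IsNormalizerSystem ((Cfsg.kInfLower ↥S).map S.subtype) N → N.center = F.center) :
    ∃ K : Subgroup Ω, K ≤ (S ⊓ Subgroup.centralizer (S : Set Ω)) ∧ F.center ⊓ K = ⊥ ∧
      F.center ⊔ K = (S ⊓ Subgroup.centralizer (S : Set Ω)) := by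
  refine Cfsg.Agent.Lib.Helper2.DirFac.directFactor_of_center_eq p hS F hF
    ((Cfsg.kInfLower ↥S).map S.subtype) (Subgroup.map_subtype_le _) ?_ ?_ hctl
  · -- `S` normalizes the image of a characteristic subgroup
    intro s hs
    rw [Subgroup.mem_normalizer_iff]
    have hmap : ∀ t : ↥S, ∀ y : ↥S, y ∈ Cfsg.kInfLower ↥S → t * y * t⁻¹ ∈ Cfsg.kInfLower ↥S := by
      intro t y hy
      have h1 := kInfLower_hW2 (p := p) ↥S ↥S hS (MulAut.conj t)
      rw [← h1]
      exact ⟨y, hy, rfl⟩
    intro h
    constructor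
    · rintro ⟨y, hy, rfl⟩
      exact ⟨⟨s, hs⟩ * y * ⟨s, hs⟩⁻¹, hmap ⟨s, hs⟩ y hy, rfl⟩
    · rintro ⟨y, hy, hyh⟩
      refine ⟨⟨s, hs⟩⁻¹ * y * ⟨s, hs⟩, ?_, ?_⟩
      · have := hmap (⟨s, hs⟩⁻¹) y hy
        simpa using this
      · show s⁻¹ * (y : Ω) * s = h
        have hyh' : (y : Ω) = s * h * s⁻¹ := hyh
        rw [hyh']
        group
  · -- `Z(S)` lies in the image
    rintro z ⟨hzS, hzC⟩
    refine ⟨⟨z, hzS⟩, kInfLower_hWZ (p := p) ↥S hS ?_, rfl⟩
    rw [Subgroup.mem_center_iff]
    intro y
    exact Subtype.ext (Subgroup.mem_centralizer_iff.mp hzC y y.2)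

end Cfsg.Agent.Lib.Helper2.KInfC
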