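import Mathlib

/-!
# J-FR : the Frobenius map generates the automorphism group of a finite field

Piece for S2605/S2606 (poster helper51).  Mathlib only.
-/

set_option autoImplicit false

namespace Cfsg.Agent.Lib.Helper2.OutFR

/-- a field of order `p ^ f` has characteristic `p` -/
theorem charP_of_card_pow {F : Type*} [Field F] [Fintype F] {p f : ℕ} [Fact p.Prime]
    (hF : Fintype.card F = p ^ f) : CharP F p := by
  obtain ⟨p', hp'⟩ := CharP.exists F
  obtain ⟨n, hpp, hn⟩ := FiniteField.card F p'
  have hf0 : f ≠ 0 := by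
    rintro rfl
    have h1 := Fintype.one_lt_card (α := F)
    rw [hF] at h1
    simp at h1
  have h1 : p ∣ p' ^ (n : ℕ) := by
    rw [← hn, hF]
    exact dvd_pow_self p hf0
  have h2 : p ∣ p' := (Fact.out : p.Prime).dvd_of_dvd_pow h1
  have h3 : p = p' := (Nat.prime_dvd_prime_iff_eq Fact.out hpp).1 h2
  rw [h3]
  exact hp'

/-- the automorphism group of a field of order `p ^ f` has order `f` -/
theorem ringAut_card {F : Type*} [Field F] [Fintype F] {p f : ℕ} [Fact p.Prime]
    (hF : Fintype.card F = p ^ f) : Nat.card (RingAut F) = f := by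
  have := charP_of_card_pow hF
  let _ : Algebra (ZMod p) F := ZMod.algebra F p
  let e : (F ≃ₐ[ZMod p] F) ≃* RingAut F :=
    { toFun := fun f => f.toRingEquiv
      invFun := fun f => AlgEquiv.ofRingEquiv (f := f) (fun x =>
        RingHom.congr_fun (Subsingleton.elim ((f : F →+* F).comp (algebraMap (ZMod p) F))
          (algebraMap (ZMod p) F)) x)
      left_inv := fun f => by ext x; rfl
      right_inv := fun f => by ext x; rfl
      map_mul' := fun f g => rfl }
  rw [← Nat.card_congr e.toEquiv, IsGalois.card_aut_eq_finrank]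
  have h1 := Module.card_eq_pow_finrank (K := ZMod p) (V := F)
  rw [hF, ZMod.card] at h1
  exact (Nat.pow_right_injective (Fact.out : p.Prime).two_le h1).symm

/-- J-FR : Frobenius generates Aut(F), order f. -/
theorem frob_gen {F : Type*} [Field F] [Fintype F] {p f : ℕ} [Fact p.Prime] (hf : 1 ≤ f)
    (hF : Fintype.card F = p ^ f) (φ : RingAut F) (hφ : ∀ x, φ x = x ^ p) :
    (∀ σ : RingAut F, ∃ k : ℕ, σ = φ ^ k) ∧ (∀ k : ℕ, φ ^ k = 1 ↔ f ∣ k) := by
  have hp : p.Prime := Fact.out
  have hpow : ∀ (k : ℕ) (x : F), (φ ^ k) x = x ^ (p ^ k) := by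
    intro k
    induction k with
    | zero => intro x; simp
    | succ k ih =>
      intro x
      rw [pow_succ, RingAut.mul_apply, hφ, ih, ← pow_mul, pow_succ, mul_comm]
  have hff : φ ^ f = 1 := by
    ext x
    rw [hpow, ← hF, FiniteField.pow_card]
    rfl
  have hord : ∀ k : ℕ, φ ^ k = 1 ↔ f ∣ k := by
    intro k
    constructor
    · intro hk
      have hr : φ ^ (k % f) = 1 := by
        have h0 : φ ^ k = φ ^ (k % f) := by
          conv_lhs => rw [← Nat.mod_add_div k f]
          rw [pow_add, pow_mul, hff, one_pow, mul_one]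
        rw [← h0]
        exact hk
      by_contra hdvd
      have hr0 : 0 < k % f := Nat.pos_of_ne_zero (fun h => hdvd (Nat.dvd_of_mod_eq_zero h))
      have hrf : k % f < f := Nat.mod_lt _ (by omega)
      obtain ⟨g, hg⟩ := IsCyclic.exists_ofOrder_eq_natCard (α := Fˣ)
      have hcard : Nat.card Fˣ = p ^ f - 1 := by
        classical
        rw [Nat.card_eq_fintype_card, Fintype.card_units, hF]
      have h1 : ((g : F)) ^ (p ^ (k % f)) = g := by
        rw [← hpow, hr]
        rfl
      have h2 : g ^ (p ^ (k % f) - 1) = 1 := by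
        have hpos : 1 ≤ p ^ (k % f) := Nat.one_le_pow _ _ hp.pos
        have h3 : g ^ (p ^ (k % f) - 1) * g = 1 * g := by
          rw [← pow_succ, Nat.sub_add_cancel hpos, one_mul]
          exact Units.ext (by simpa using h1)
        exact mul_right_cancel h3
      have h3 : p ^ f - 1 ∣ p ^ (k % f) - 1 := by
        rw [← hcard, ← hg]
        exact orderOf_dvd_of_pow_eq_one h2
      have h4 : p ^ (k % f) < p ^ f := Nat.pow_lt_pow_right hp.one_lt hrf
      have h5 : 1 < p ^ (k % f) := Nat.one_lt_pow hr0.ne' hp.one_lt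
      have h6 := Nat.le_of_dvd (by omega) h3
      omega
    · rintro ⟨j, rfl⟩
      rw [pow_mul, hff, one_pow]
  refine ⟨?_, hord⟩
  have hcard : Nat.card (RingAut F) = f := ringAut_card hF
  have hfin : Finite (RingAut F) := Nat.finite_of_card_ne_zero (by omega)
  have horder : orderOf φ = f := by
    apply Nat.dvd_antisymm
    · exact orderOf_dvd_of_pow_eq_one hff
    · exact (hord _).1 (pow_orderOf_eq_one φ)
  have htop : Subgroup.zpowers φ = ⊤ := by
    apply Subgroup.eq_top_of_card_eq
    rw [Nat.card_zpowers, horder, hcard]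
  intro σ
  have hmem : σ ∈ Subgroup.zpowers φ := htop ▸ Subgroup.mem_top σ
  have hmem' : σ ∈ Submonoid.powers φ :=
    (isOfFinOrder_of_finite φ).mem_powers_iff_mem_zpowers.2 hmem
  obtain ⟨k, hk⟩ := hmem'
  exact ⟨k, hk.symm⟩

end Cfsg.Agent.Lib.Helper2.OutFR
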