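import Mathlib
import Cfsg.Prelude.Def_LocalEven
import Cfsg.Prelude.Def_PLocal
import Cfsg.Agent.Lib.Helper54.Qd3

set_option autoImplicit false

namespace Cfsg.Agent.Lib.Helper2

open Cfsg Matrix Cfsg.Agent.Lib.Helper54

section inj

variable {p : ℕ} [Fact p.Prime]

/-- `p`-stability (normalizer form) pulls back along injective homomorphisms. -/
theorem isNormalizerPStable_of_injective {G H : Type*} [Group G] [Group H] [Finite G] [Finite H]
    (f : H →* G) (hf : Function.Injective f) (hst : IsNormalizerPStable p G) :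
    IsNormalizerPStable p H := by
  intro P hP g hg hquad
  obtain ⟨P', hP'⟩ : ∃ P' : Subgroup G, P' = P.map f := ⟨_, rfl⟩
  have hP'p : IsPGroup p P' := hP' ▸ hP.map _
  have hNle : ∀ x : H, x ∈ Subgroup.normalizer (P : Set H) →
      f x ∈ Subgroup.normalizer (P' : Set G) := by
    intro x hx
    rw [hP']
    exact (Subgroup.le_normalizer_map f) ⟨x, hx, rfl⟩
  have hg' : f g ∈ Subgroup.normalizer (P' : Set G) := hNle g hg
  have hquad' : ⁅⁅P', Subgroup.zpowers (f g)⁆, Subgroup.zpowers (f g)⁆ = ⊥ := by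
    have h1 : Subgroup.zpowers (f g) = (Subgroup.zpowers g).map f :=
      (MonoidHom.map_zpowers f g).symm
    rw [h1, hP', ← Subgroup.map_commutator, ← Subgroup.map_commutator, hquad, Subgroup.map_bot]
  have hmem := hst P' hP'p (f g) hg' hquad'
  let ι : ↥(Subgroup.normalizer (P : Set H)) →* ↥(Subgroup.normalizer (P' : Set G)) :=
    { toFun := fun x => ⟨f x.1, hNle x.1 x.2⟩
      map_one' := Subtype.ext (map_one f)
      map_mul' := fun a b => Subtype.ext (map_mul f a.1 b.1) }
  have hι : ∀ x, ((ι x : ↥(Subgroup.normalizer (P' : Set G))) : G) = f x.1 := fun _ => rfl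
  have hcent : ∀ x : ↥(Subgroup.normalizer (P : Set H)),
      x ∈ (Subgroup.centralizer (P : Set H)).subgroupOf (Subgroup.normalizer (P : Set H)) ↔
      ι x ∈ (Subgroup.centralizer (P' : Set G)).subgroupOf (Subgroup.normalizer (P' : Set G)) := by
    intro x
    rw [Subgroup.mem_subgroupOf, Subgroup.mem_subgroupOf, Subgroup.mem_centralizer_iff,
      Subgroup.mem_centralizer_iff, hι]
    constructor
    · intro h z hz
      rw [hP'] at hz
      obtain ⟨y, hy, rfl⟩ := hz
      rw [← map_mul, ← map_mul, h y hy]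
    · intro h y hy
      apply hf
      rw [map_mul, map_mul]
      exact h (f y) (hP' ▸ ⟨y, hy, rfl⟩)
  let ιq := QuotientGroup.map
    ((Subgroup.centralizer (P : Set H)).subgroupOf (Subgroup.normalizer (P : Set H)))
    ((Subgroup.centralizer (P' : Set G)).subgroupOf (Subgroup.normalizer (P' : Set G))) ι
    (fun x hx => (hcent x).mp hx)
  have hιq : ∀ x, ιq (QuotientGroup.mk x) = QuotientGroup.mk (ι x) := fun _ => rfl
  have hinj : Function.Injective ιq := by
    rw [injective_iff_map_eq_one]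
    intro q hq
    obtain ⟨x, rfl⟩ := QuotientGroup.mk_surjective q
    rw [hιq, QuotientGroup.eq_one_iff] at hq
    exact (QuotientGroup.eq_one_iff x).mpr ((hcent x).mpr hq)
  have hcore_p : IsPGroup p (Cfsg.pCore p (↥(Subgroup.normalizer (P' : Set G)) ⧸
      (Subgroup.centralizer (P' : Set G)).subgroupOf (Subgroup.normalizer (P' : Set G)))) :=
    Sylow.sSup_of_normal _ (fun K h => h.2) (fun K h => h.1)
  have hKn : ((Cfsg.pCore p (↥(Subgroup.normalizer (P' : Set G)) ⧸
      (Subgroup.centralizer (P' : Set G)).subgroupOf (Subgroup.normalizer (P' : Set G)))).comap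
        ιq).Normal :=
    Subgroup.Normal.comap (pCore_normal' _) ιq
  have hKp : IsPGroup p ((Cfsg.pCore p (↥(Subgroup.normalizer (P' : Set G)) ⧸
      (Subgroup.centralizer (P' : Set G)).subgroupOf (Subgroup.normalizer (P' : Set G)))).comap
        ιq) :=
    hcore_p.comap_of_injective ιq hinj
  have hle : (Cfsg.pCore p (↥(Subgroup.normalizer (P' : Set G)) ⧸
      (Subgroup.centralizer (P' : Set G)).subgroupOf (Subgroup.normalizer (P' : Set G)))).comap
        ιq ≤ Cfsg.pCore p (↥(Subgroup.normalizer (P : Set H)) ⧸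
          (Subgroup.centralizer (P : Set H)).subgroupOf (Subgroup.normalizer (P : Set H))) :=
    le_sSup ⟨hKn, hKp⟩
  apply hle
  rw [Subgroup.mem_comap]
  exact hmem

end inj

section aff

variable {p : ℕ} [Fact p.Prime]

theorem uu_inv' {R : Type*} [CommRing R] (b : R) : (uu b)⁻¹ = uu (-b) := by
  rw [inv_eq_iff_mul_eq_one, uu_mul, add_neg_cancel, uu_zero]

/-- `Qd(p)` (as the affine group) is not `p`-stable: the transvection `uu 1` acts quadratically
on the translation subgroup but is not in `O_p` modulo the centralizer. -/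
theorem not_isNormalizerPStable_affSub : ¬ IsNormalizerPStable p ↥(affSub (ZMod p)) := by
  intro hst
  have hPp : IsPGroup p ↥(transSub (ZMod p)) := transSub_isPGroup
  have hNtop : Subgroup.normalizer ((transSub (ZMod p) : Subgroup ↥(affSub (ZMod p))) :
      Set ↥(affSub (ZMod p))) = ⊤ := Subgroup.normalizer_eq_top _
  have hg : uu (1 : ZMod p) ∈ Subgroup.normalizer
      ((transSub (ZMod p) : Subgroup ↥(affSub (ZMod p))) : Set ↥(affSub (ZMod p))) := by
    rw [hNtop]; exact Subgroup.mem_top _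
  -- the two auxiliary subgroups
  let Uu : Subgroup ↥(affSub (ZMod p)) :=
    { carrier := {M | ∃ b : ZMod p, M = uu b}
      mul_mem' := by
        rintro _ _ ⟨b, rfl⟩ ⟨c, rfl⟩
        exact ⟨b + c, uu_mul b c⟩
      one_mem' := ⟨0, uu_zero.symm⟩
      inv_mem' := by
        rintro _ ⟨b, rfl⟩
        exact ⟨-b, uu_inv' b⟩ }
  let T₁ : Subgroup ↥(affSub (ZMod p)) :=
    { carrier := {M | ∃ x : ZMod p, M = tv x 0}
      mul_mem' := by
        rintro _ _ ⟨x, rfl⟩ ⟨x', rfl⟩
        exact ⟨x + x', by rw [tv_mul, add_zero]⟩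
      one_mem' := ⟨0, tv_zero.symm⟩
      inv_mem' := by
        rintro _ ⟨x, rfl⟩
        exact ⟨-x, by rw [tv_inv, neg_zero]⟩ }
  have hzU : Subgroup.zpowers (uu (1 : ZMod p)) ≤ Uu := by
    rw [Subgroup.zpowers_le]
    exact ⟨1, rfl⟩
  have hconj : ∀ (b x y : ZMod p), uu b * tv x y * (uu b)⁻¹ = tv (x + b * y) y := by
    intro b x y
    rw [conj_tv, amat_uu_00, amat_uu_01, amat_uu_10, amat_uu_11]
    congr 1 <;> ring
  have h1 : ⁅transSub (ZMod p), Uu⁆ ≤ T₁ := by
    rw [Subgroup.commutator_le]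
    rintro t ht _ ⟨b, rfl⟩
    rw [eq_tv_of_mem ht, commutatorElement_def, tv_inv]
    have h2 : tv (amat t 0 2) (amat t 1 2) * uu b * tv (-amat t 0 2) (-amat t 1 2) * (uu b)⁻¹ =
        tv (amat t 0 2) (amat t 1 2) * (uu b * tv (-amat t 0 2) (-amat t 1 2) * (uu b)⁻¹) := by
      group
    rw [h2, hconj, tv_mul]
    refine ⟨-(b * amat t 1 2), ?_⟩
    congr 1 <;> ring
  have h3 : ⁅T₁, Uu⁆ = ⊥ := by
    rw [eq_bot_iff, Subgroup.commutator_le]
    rintro _ ⟨x, rfl⟩ _ ⟨b, rfl⟩
    rw [Subgroup.mem_bot, commutatorElement_def, tv_inv]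
    have h2 : tv x 0 * uu b * tv (-x) (-0) * (uu b)⁻¹ =
        tv x 0 * (uu b * tv (-x) (-0) * (uu b)⁻¹) := by group
    rw [h2, hconj, tv_mul]
    have h4 : tv (x + (-x + b * -0)) (0 + -0) = tv (0 : ZMod p) 0 := by
      congr 1 <;> ring
    rw [h4, tv_zero]
  have hquad : ⁅⁅transSub (ZMod p), Subgroup.zpowers (uu (1 : ZMod p))⁆,
      Subgroup.zpowers (uu (1 : ZMod p))⁆ = ⊥ := by
    rw [eq_bot_iff, ← h3]
    exact Subgroup.commutator_mono ((Subgroup.commutator_mono le_rfl hzU).trans h1) hzU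
  have hmem := hst (transSub (ZMod p)) hPp (uu 1) hg hquad
  -- pull back `O_p` of the quotient
  obtain ⟨N, hN⟩ : ∃ N : Subgroup ↥(affSub (ZMod p)), N = Subgroup.normalizer
      ((transSub (ZMod p) : Subgroup ↥(affSub (ZMod p))) : Set ↥(affSub (ZMod p))) := ⟨_, rfl⟩
  subst hN
  obtain ⟨D, hD⟩ : ∃ D : Subgroup ↥(Subgroup.normalizer
      ((transSub (ZMod p) : Subgroup ↥(affSub (ZMod p))) : Set ↥(affSub (ZMod p)))),
      D = (pCore p _).comap (QuotientGroup.mk' ((Subgroup.centralizer
        ((transSub (ZMod p) : Subgroup ↥(affSub (ZMod p))) : Set ↥(affSub (ZMod p)))).subgroupOf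
        (Subgroup.normalizer
          ((transSub (ZMod p) : Subgroup ↥(affSub (ZMod p))) : Set ↥(affSub (ZMod p)))))) :=
    ⟨_, rfl⟩
  have hDn : D.Normal := by
    rw [hD]
    exact Subgroup.Normal.comap (pCore_normal' _) _
  have hCp : IsPGroup p ↥((Subgroup.centralizer
      ((transSub (ZMod p) : Subgroup ↥(affSub (ZMod p))) : Set ↥(affSub (ZMod p)))).subgroupOf
      (Subgroup.normalizer
        ((transSub (ZMod p) : Subgroup ↥(affSub (ZMod p))) : Set ↥(affSub (ZMod p))))) :=
    (hPp.to_le centralizer_transSub_le).comap_subtype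
  have hDp : IsPGroup p ↥D := by
    rw [hD]
    apply IsPGroup.comap_of_ker_isPGroup (pCore_isPGroup p _)
    rw [QuotientGroup.ker_mk']
    exact hCp
  have hsurj : Function.Surjective (Subgroup.normalizer
      ((transSub (ZMod p) : Subgroup ↥(affSub (ZMod p))) : Set ↥(affSub (ZMod p)))).subtype := by
    intro x
    exact ⟨⟨x, by rw [hNtop]; exact Subgroup.mem_top x⟩, rfl⟩
  have hDmapn : (D.map (Subgroup.normalizer
      ((transSub (ZMod p) : Subgroup ↥(affSub (ZMod p))) : Set ↥(affSub (ZMod p)))).subtype).Normal :=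
    Subgroup.Normal.map hDn _ hsurj
  have hDmapp : IsPGroup p ↥(D.map (Subgroup.normalizer
      ((transSub (ZMod p) : Subgroup ↥(affSub (ZMod p))) : Set ↥(affSub (ZMod p)))).subtype) :=
    hDp.map _
  have hle : D.map (Subgroup.normalizer
      ((transSub (ZMod p) : Subgroup ↥(affSub (ZMod p))) : Set ↥(affSub (ZMod p)))).subtype ≤
      pCore p ↥(affSub (ZMod p)) := le_sSup ⟨hDmapn, hDmapp⟩
  rw [pCore_affSub (p := p)] at hle
  apply uu_one_not_mem_transSub (F := ZMod p)
  apply hle
  refine ⟨⟨uu 1, hg⟩, ?_, rfl⟩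
  rw [hD]
  exact hmem

theorem not_isNormalizerPStable_qd : ¬ IsNormalizerPStable p ↥(qd p) := by
  intro hst
  apply not_isNormalizerPStable_affSub (p := p)
  exact isNormalizerPStable_of_injective
    (MulEquiv.subgroupCongr (qd_eq p).symm).toMonoidHom
    (MulEquiv.subgroupCongr (qd_eq p).symm).injective hst

end aff

end Cfsg.Agent.Lib.Helper2
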