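import Mathlib
import Cfsg.Agent.Lib.Helper15.DicksonMat6
import Cfsg.Agent.Lib.Helper54.DicksonGen
import Cfsg.Agent.Lib.Helper14.SL2

set_option autoImplicit false

namespace Cfsg.Agent.Lib.Helper2

open Matrix

section la2

variable {F : Type*} [Field F] [Fintype F] {p : ℕ} [Fact p.Prime] [CharP F p]
variable {W : Type*} [AddCommGroup W] [Module F W] {Γ : Type*} [Group Γ]

/-- A group `Γ = ⟨a, b⟩` acting `F`-linearly on a two-dimensional space with `a`, `b` acting as
`[[1, c], [0, 1]]` and `[[1, 0], [1, 1]]`, and not as a `p`-group, contains two elements acting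
on suitable vectors `w₁`, `w₂` (independent over the prime field) as the standard generators of
`SL₂(p)` (via Dickson's lemma). -/
theorem natural_pair_of_basis (hp2 : p ≠ 2) (ρ : Γ →* Module.End F W) (a b : Γ)
    (hgen : Subgroup.closure {a, b} = ⊤) (bs : Module.Basis (Fin 2) F W) (c : F)
    (hav : ρ a (bs 0) = bs 0) (hae : ρ a (bs 1) = bs 1 + c • bs 0)
    (hbv : ρ b (bs 0) = bs 0 + bs 1) (hbe : ρ b (bs 1) = bs 1)
    (hnp : ∃ y : Γ, ∀ j : ℕ, ρ (y ^ p ^ j) ≠ 1) :
    ∃ (x₁ y₁ : Γ) (w₁ w₂ : W), (∀ m n : ℕ, m • w₁ + n • w₂ = 0 → p ∣ m ∧ p ∣ n) ∧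
      ρ x₁ w₁ = w₁ ∧ ρ x₁ w₂ = w₁ + w₂ ∧ ρ y₁ w₁ = w₁ + w₂ ∧ ρ y₁ w₂ = w₂ := by
  classical
  let m : Γ →* Matrix (Fin 2) (Fin 2) F :=
    ((LinearMap.toMatrixAlgEquiv bs : Module.End F W ≃ₐ[F] Matrix (Fin 2) (Fin 2) F) :
      Module.End F W →* Matrix (Fin 2) (Fin 2) F).comp ρ
  have hm : ∀ g, m g = LinearMap.toMatrix bs bs (ρ g) := fun g => rfl
  have hminj : ∀ g, m g = 1 → ρ g = 1 := by
    intro g hg
    have h1 : (LinearMap.toMatrixAlgEquiv bs : Module.End F W ≃ₐ[F] Matrix (Fin 2) (Fin 2) F)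
        (ρ g) = (LinearMap.toMatrixAlgEquiv bs : Module.End F W ≃ₐ[F] Matrix (Fin 2) (Fin 2) F)
        1 := by
      rw [map_one]; exact hg
    exact (LinearMap.toMatrixAlgEquiv bs).injective h1
  have hrepr : ∀ g w, bs.equivFun (ρ g w) = (m g).mulVec (bs.equivFun w) := by
    intro g w
    rw [hm]
    exact (LinearMap.toMatrix_mulVec_repr bs bs (ρ g) w).symm
  have hma : m a = !![1, c; 0, 1] := by
    ext i j
    rw [hm, LinearMap.toMatrix_apply]
    fin_cases i <;> fin_cases j <;> simp [hav, hae]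
  have hmb : m b = !![1, 0; 1, 1] := by
    ext i j
    rw [hm, LinearMap.toMatrix_apply]
    fin_cases i <;> fin_cases j <;> simp [hbv, hbe]
  have hdet : ∀ g, (m g).det = 1 := by
    intro g
    have hg : g ∈ Subgroup.closure ({a, b} : Set Γ) := hgen ▸ Subgroup.mem_top g
    induction hg using Subgroup.closure_induction with
    | mem x hx =>
      rcases hx with rfl | hx
      · rw [hma, Matrix.det_fin_two_of]; ring
      · rw [Set.mem_singleton_iff] at hx
        subst hx
        rw [hmb, Matrix.det_fin_two_of]; ring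
    | one => rw [map_one, det_one]
    | mul x y _ _ hx hy => rw [map_mul, det_mul, hx, hy, one_mul]
    | inv x _ hx =>
      have h1 : (m x⁻¹).det * (m x).det = 1 := by
        rw [← det_mul, ← map_mul, inv_mul_cancel, map_one, det_one]
      rwa [hx, mul_one] at h1
  let φ : Γ →* SpecialLinearGroup (Fin 2) F :=
    { toFun := fun g => ⟨m g, hdet g⟩
      map_one' := Subtype.ext (map_one m)
      map_mul' := fun g h => Subtype.ext (map_mul m g h) }
  have hφ : ∀ g, ((φ g : SpecialLinearGroup (Fin 2) F) : Matrix (Fin 2) (Fin 2) F) = m g :=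
    fun g => rfl
  have hφp : ∀ g, (m g - 1) * (m g - 1) = 0 → φ g ^ p = 1 := by
    intro g hg
    rw [← map_pow]
    apply Subtype.ext
    show m (g ^ p) = 1
    rw [map_pow]
    exact Cfsg.Agent.Lib.Helper14.pow_char_eq_one_of_sq_zero F p (m g) hg
  have hφa : φ a ^ p = 1 := by
    apply hφp
    rw [hma]
    ext i j
    fin_cases i <;> fin_cases j <;> simp [Matrix.mul_apply, Fin.sum_univ_two]
  have hφb : φ b ^ p = 1 := by
    apply hφp
    rw [hmb]
    ext i j
    fin_cases i <;> fin_cases j <;> simp [Matrix.mul_apply, Fin.sum_univ_two]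
  set H : Subgroup (SpecialLinearGroup (Fin 2) F) := φ.range with hH
  have hcard : 1 < Nat.card (Sylow p H) := by
    by_contra hcard
    have hsub : Subsingleton (Sylow p H) :=
      (Finite.card_le_one_iff_subsingleton).mp (not_lt.mp hcard)
    obtain ⟨P⟩ : Nonempty (Sylow p H) := inferInstance
    have hmemP : ∀ x : ↥H, x ^ p = 1 → x ∈ P := by
      intro x hx
      have hxp : IsPGroup p ↥(Subgroup.zpowers x) := by
        have h1 : orderOf x ∣ p ^ 1 := by
          rw [pow_one]; exact orderOf_dvd_of_pow_eq_one hx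
        obtain ⟨j, -, hj⟩ := (Nat.dvd_prime_pow (Fact.out : p.Prime)).1 h1
        apply IsPGroup.of_card (n := j)
        rw [Nat.card_zpowers, hj]
      obtain ⟨Q, hQ⟩ := hxp.exists_le_sylow
      rw [Subsingleton.elim P Q]
      exact hQ (Subgroup.mem_zpowers x)
    have hall : ∀ g : Γ, φ.rangeRestrict g ∈ P := by
      intro g
      have hg : g ∈ Subgroup.closure ({a, b} : Set Γ) := hgen ▸ Subgroup.mem_top g
      have hle : Subgroup.closure ({a, b} : Set Γ) ≤ (P : Subgroup ↥H).comap φ.rangeRestrict := by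
        rw [Subgroup.closure_le]
        intro x hx
        rcases hx with rfl | hx
        · apply hmemP
          rw [← map_pow]
          apply Subtype.ext
          show φ (x ^ p) = 1
          rw [map_pow]
          exact hφa
        · rw [Set.mem_singleton_iff] at hx
          subst hx
          apply hmemP
          rw [← map_pow]
          apply Subtype.ext
          show φ (x ^ p) = 1
          rw [map_pow]
          exact hφb
      exact hle hg
    obtain ⟨y, hy⟩ := hnp
    obtain ⟨j, hj⟩ := P.isPGroup' ⟨φ.rangeRestrict y, hall y⟩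
    apply hy j
    apply hminj
    have h1 := congrArg (fun z : ↥P => (((z : ↥H) : SpecialLinearGroup (Fin 2) F) :
      Matrix (Fin 2) (Fin 2) F)) hj
    simp only [Subgroup.coe_pow, Subgroup.coe_one] at h1
    rw [map_pow]
    exact h1
  obtain ⟨x', y', hx'H, hy'H, hx'2, hy'2, htr⟩ :=
    Cfsg.Agent.Lib.Helper15.exists_unip_pair_trace hp2 H hcard
  obtain ⟨x₁, rfl⟩ := hx'H
  obtain ⟨y₁, rfl⟩ := hy'H
  obtain ⟨P, hPdet, hxP, hyP⟩ :=
    Cfsg.Agent.Lib.Helper54.exists_conj_unip (1 : F) one_ne_zero hx'2 hy'2 htr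
  rw [hφ] at hxP hyP
  let w₁ : W := bs.equivFun.symm (fun i => P i 0)
  let w₂ : W := bs.equivFun.symm (fun i => P i 1)
  have hw₁ : bs.equivFun w₁ = fun i => P i 0 := LinearEquiv.apply_symm_apply _ _
  have hw₂ : bs.equivFun w₂ = fun i => P i 1 := LinearEquiv.apply_symm_apply _ _
  have hcol : ∀ (A : Matrix (Fin 2) (Fin 2) F) (j : Fin 2),
      A.mulVec (fun i => P i j) = fun i => (A * P) i j := by
    intro A j
    ext i
    simp [Matrix.mulVec, dotProduct, Matrix.mul_apply]
  refine ⟨x₁, y₁, w₁, w₂, ?_, ?_, ?_, ?_, ?_⟩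
  · intro k n hkn
    have h1 := congrArg bs.equivFun hkn
    rw [map_add, map_nsmul, map_nsmul, hw₁, hw₂, map_zero] at h1
    have h2 : P.mulVec ![(k : F), (n : F)] = 0 := by
      ext i
      have h3 := congrFun h1 i
      rw [Pi.add_apply, Pi.smul_apply, Pi.smul_apply, nsmul_eq_mul, nsmul_eq_mul,
        Pi.zero_apply] at h3
      simp only [Matrix.mulVec, dotProduct, Fin.sum_univ_two, Matrix.cons_val_zero,
        Matrix.cons_val_one, Pi.zero_apply]
      linear_combination h3
    have h4 := Matrix.eq_zero_of_mulVec_eq_zero hPdet h2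
    have h5 := congrFun h4 0
    have h6 := congrFun h4 1
    simp only [Matrix.cons_val_zero, Matrix.cons_val_one, Pi.zero_apply] at h5 h6
    exact ⟨(CharP.cast_eq_zero_iff F p k).mp h5, (CharP.cast_eq_zero_iff F p n).mp h6⟩
  · apply bs.equivFun.injective
    rw [hrepr, hw₁, hcol, hxP]
    ext i
    fin_cases i <;> simp [Matrix.mul_apply, Fin.sum_univ_two]
  · apply bs.equivFun.injective
    rw [hrepr, map_add, hw₁, hw₂, hcol, hxP]
    ext i
    fin_cases i <;> simp [Matrix.mul_apply, Fin.sum_univ_two]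
  · apply bs.equivFun.injective
    rw [hrepr, map_add, hw₁, hw₂, hcol, hyP]
    ext i
    fin_cases i <;> simp [Matrix.mul_apply, Fin.sum_univ_two]
  · apply bs.equivFun.injective
    rw [hrepr, hw₂, hcol, hyP]
    ext i
    fin_cases i <;> simp [Matrix.mul_apply, Fin.sum_univ_two]

end la2

section la15

variable {F : Type*} [Field F] [Fintype F] {p : ℕ} [Fact p.Prime] [CharP F p]
variable {W : Type*} [AddCommGroup W] [Module (ZMod p) W] {Γ : Type*} [Group Γ]

/-- Version of `natural_pair_of_basis` where the field acts through a ring homomorphism into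
the endomorphism ring commuting with the group action. -/
theorem natural_pair_of_hom (hp2 : p ≠ 2) (ρ : Γ →* Module.End (ZMod p) W)
    (ι : F →+* Module.End (ZMod p) W) (hcomm : ∀ f g, ι f * ρ g = ρ g * ι f)
    (a b : Γ) (hgen : Subgroup.closure {a, b} = ⊤) (v e₂ : W) (c : F)
    (hspan : ∀ w, ∃ f₁ f₂ : F, w = ι f₁ v + ι f₂ e₂)
    (hind : ∀ f₁ f₂ : F, ι f₁ v + ι f₂ e₂ = 0 → f₁ = 0 ∧ f₂ = 0)
    (hav : ρ a v = v) (hae : ρ a e₂ = e₂ + ι c v) (hbv : ρ b v = v + e₂) (hbe : ρ b e₂ = e₂)
    (hnp : ∃ y : Γ, ∀ j : ℕ, ρ (y ^ p ^ j) ≠ 1) :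
    ∃ (x₁ y₁ : Γ) (w₁ w₂ : W), (∀ m n : ℕ, m • w₁ + n • w₂ = 0 → p ∣ m ∧ p ∣ n) ∧
      ρ x₁ w₁ = w₁ ∧ ρ x₁ w₂ = w₁ + w₂ ∧ ρ y₁ w₁ = w₁ + w₂ ∧ ρ y₁ w₂ = w₂ := by
  letI : Module F W := Module.compHom W ι
  have hsmul : ∀ (f : F) (w : W), f • w = ι f w := fun f w => rfl
  let ρF : Γ →* Module.End F W :=
    { toFun := fun g =>
        { toFun := fun w => ρ g w
          map_add' := fun w w' => map_add (ρ g) w w'
          map_smul' := fun f w => by
            show ρ g (ι f w) = ι f (ρ g w)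
            have := congrArg (fun T : Module.End (ZMod p) W => T w) (hcomm f g)
            exact this.symm }
      map_one' := by
        ext w
        show ρ 1 w = w
        rw [map_one]; rfl
      map_mul' := fun g h => by
        ext w
        show ρ (g * h) w = ρ g (ρ h w)
        rw [map_mul]; rfl }
  have hρF : ∀ g w, ρF g w = ρ g w := fun g w => rfl
  have hli : LinearIndependent F ![v, e₂] := by
    rw [LinearIndependent.pair_iff]
    intro s t hst
    exact hind s t hst
  have hsp : ⊤ ≤ Submodule.span F (Set.range ![v, e₂]) := by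
    intro w _
    obtain ⟨f₁, f₂, rfl⟩ := hspan w
    exact Submodule.add_mem _ (Submodule.smul_mem _ f₁ (Submodule.subset_span ⟨0, rfl⟩))
      (Submodule.smul_mem _ f₂ (Submodule.subset_span ⟨1, rfl⟩))
  let bs : Module.Basis (Fin 2) F W := Module.Basis.mk hli hsp
  have hb0 : bs 0 = v := by
    show (Module.Basis.mk hli hsp) 0 = v
    rw [Module.Basis.mk_apply]; rfl
  have hb1 : bs 1 = e₂ := by
    show (Module.Basis.mk hli hsp) 1 = e₂
    rw [Module.Basis.mk_apply]; rfl
  have hnpF : ∃ y : Γ, ∀ j : ℕ, ρF (y ^ p ^ j) ≠ 1 := by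
    obtain ⟨y, hy⟩ := hnp
    refine ⟨y, fun j h => hy j ?_⟩
    ext w
    have := congrArg (fun T : Module.End F W => T w) h
    exact this
  obtain ⟨x₁, y₁, w₁, w₂, h1, h2, h3, h4, h5⟩ := natural_pair_of_basis hp2 ρF a b hgen bs c
    (by rw [hb0]; exact hav) (by rw [hb1, hb0]; exact hae) (by rw [hb0, hb1]; exact hbv)
    (by rw [hb1]; exact hbe) hnpF
  exact ⟨x₁, y₁, w₁, w₂, h1, h2, h3, h4, h5⟩

end la15

section fld

universe u

/-- A commutative finite subalgebra generated by one element and without zero divisors is the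
image of a finite field. -/
theorem exists_field_of_adjoin {R : Type*} [CommRing R] {A : Type u} [Ring A] [Algebra R A]
    [Finite A] {p : ℕ} [Fact p.Prime] (hpA : (p : A) = 0) (h10 : (1 : A) ≠ 0) (γ : A)
    (hdom : ∀ e₁ e₂ : A, e₁ ∈ Algebra.adjoin R ({γ} : Set A) →
      e₂ ∈ Algebra.adjoin R ({γ} : Set A) → e₁ * e₂ = 0 → e₁ = 0 ∨ e₂ = 0) :
    ∃ (F : Type u) (_ : Field F) (_ : Fintype F) (_ : CharP F p) (ι : F →+* A),
      Set.range ι = (Algebra.adjoin R ({γ} : Set A) : Set A) := by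
  classical
  let E := Algebra.adjoin R ({γ} : Set A)
  letI instC : CommRing ↥E := Algebra.adjoinCommRingOfComm R (by
    intro a ha b hb
    rw [Set.mem_singleton_iff] at ha hb
    rw [ha, hb])
  haveI : Nontrivial ↥E := ⟨⟨0, 1, fun h => h10 (congrArg Subtype.val h).symm⟩⟩
  haveI : NoZeroDivisors ↥E := ⟨fun {x y} h => by
    have h1 : (x : A) * (y : A) = 0 := congrArg Subtype.val h
    rcases hdom _ _ x.2 y.2 h1 with h2 | h2
    · exact Or.inl (Subtype.ext h2)
    · exact Or.inr (Subtype.ext h2)⟩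
  haveI : IsDomain ↥E := NoZeroDivisors.to_isDomain _
  letI : Fintype ↥E := Fintype.ofFinite _
  letI instF : Field ↥E := Fintype.fieldOfDomain ↥E
  let ι : ↥E →+* A :=
    { toFun := fun e => (e : A)
      map_one' := rfl
      map_mul' := fun _ _ => rfl
      map_zero' := rfl
      map_add' := fun _ _ => rfl }
  have hιinj : Function.Injective ι := fun x y h => Subtype.ext h
  have hchar : CharP ↥E p := by
    rw [CharP.charP_iff_prime_eq_zero (Fact.out : p.Prime)]
    apply hιinj
    rw [map_natCast, map_zero]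
    exact hpA
  refine ⟨↥E, instF, inferInstance, hchar, ι, ?_⟩
  ext x
  constructor
  · rintro ⟨e, rfl⟩
    exact e.2
  · intro hx
    exact ⟨⟨x, hx⟩, rfl⟩

end fld

section la

universe u

variable {p : ℕ} [Fact p.Prime]
variable {W : Type u} [AddCommGroup W] [Module (ZMod p) W] [Finite W] {Γ : Type*} [Group Γ]

/-- **Quadratic pairs give natural `SL₂(p)`-modules** (linear form).  Let `Γ = ⟨a, b⟩` act
irreducibly on the finite `𝔽_p`-space `W` (`p` odd), with `a` and `b` acting quadratically and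
`Γ` not acting as a `p`-group.  Then there are `x₁, y₁ ∈ Γ` and `w₁, w₂ ∈ W`, independent over
`𝔽_p`, with `x₁`, `y₁` acting on `⟨w₁, w₂⟩` as the standard generators of `SL₂(p)`. -/
theorem exists_natural_pair (hp2 : p ≠ 2) (ρ : Γ →* Module.End (ZMod p) W) (a b : Γ)
    (hgen : Subgroup.closure {a, b} = ⊤)
    (ha : (ρ a - 1) * (ρ a - 1) = 0) (hb : (ρ b - 1) * (ρ b - 1) = 0)
    (hirr : ∀ U : AddSubgroup W, (∀ u ∈ U, ρ a u ∈ U) → (∀ u ∈ U, ρ b u ∈ U) → U = ⊥ ∨ U = ⊤)
    (hnp : ∃ y : Γ, ∀ j : ℕ, ρ (y ^ p ^ j) ≠ 1) :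
    ∃ (x₁ y₁ : Γ) (w₁ w₂ : W), (∀ m n : ℕ, m • w₁ + n • w₂ = 0 → p ∣ m ∧ p ∣ n) ∧
      ρ x₁ w₁ = w₁ ∧ ρ x₁ w₂ = w₁ + w₂ ∧ ρ y₁ w₁ = w₁ + w₂ ∧ ρ y₁ w₂ = w₂ := by
  classical
  obtain ⟨α, hα⟩ : ∃ α : Module.End (ZMod p) W, α = ρ a - 1 := ⟨_, rfl⟩
  obtain ⟨β, hβ⟩ : ∃ β : Module.End (ZMod p) W, β = ρ b - 1 := ⟨_, rfl⟩
  rw [← hα] at ha
  rw [← hβ] at hb
  have hρa : ρ a = α + 1 := by rw [hα]; abel
  have hρb : ρ b = β + 1 := by rw [hβ]; abel
  obtain ⟨γ, hγ⟩ : ∃ γ : Module.End (ZMod p) W, γ = α * β + β * α := ⟨_, rfl⟩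
  have hαγ : α * γ = γ * α := by
    rw [hγ, mul_add, add_mul, ← mul_assoc, ha, zero_mul, zero_add, mul_assoc β α α, ha, mul_zero,
      add_zero, mul_assoc]
  have hβγ : β * γ = γ * β := by
    rw [hγ, mul_add, add_mul, ← mul_assoc β β α, hb, zero_mul, add_zero, mul_assoc α β β, hb,
      mul_zero, zero_add, mul_assoc]
  -- every `ρ g` commutes with `γ`
  have hργ : ∀ g : Γ, ρ g * γ = γ * ρ g := by
    intro g
    have hg : g ∈ Subgroup.closure ({a, b} : Set Γ) := hgen ▸ Subgroup.mem_top g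
    induction hg using Subgroup.closure_induction with
    | mem x hx =>
      rcases hx with rfl | hx
      · rw [hρa, add_mul, mul_add, hαγ, one_mul, mul_one]
      · rw [Set.mem_singleton_iff] at hx
        subst hx
        rw [hρb, add_mul, mul_add, hβγ, one_mul, mul_one]
    | one => rw [map_one, one_mul, mul_one]
    | mul x y _ _ hx hy => rw [map_mul, mul_assoc, hy, ← mul_assoc, hx, mul_assoc]
    | inv x _ hx =>
      have h1 : ρ x⁻¹ * ρ x = 1 := by rw [← map_mul, inv_mul_cancel, map_one]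
      have h2 : ρ x * ρ x⁻¹ = 1 := by rw [← map_mul, mul_inv_cancel, map_one]
      calc ρ x⁻¹ * γ = ρ x⁻¹ * γ * (ρ x * ρ x⁻¹) := by rw [h2, mul_one]
        _ = ρ x⁻¹ * (γ * ρ x) * ρ x⁻¹ := by simp only [mul_assoc]
        _ = ρ x⁻¹ * (ρ x * γ) * ρ x⁻¹ := by rw [hx]
        _ = (ρ x⁻¹ * ρ x) * γ * ρ x⁻¹ := by simp only [mul_assoc]
        _ = γ * ρ x⁻¹ := by rw [h1, one_mul]
  -- the subalgebra generated by `γ` commutes with the action
  have hEcomm : ∀ e ∈ Algebra.adjoin (ZMod p) ({γ} : Set (Module.End (ZMod p) W)),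
      ∀ g : Γ, e * ρ g = ρ g * e := by
    intro e he g
    have hle : Algebra.adjoin (ZMod p) ({γ} : Set (Module.End (ZMod p) W)) ≤
        Subalgebra.centralizer (ZMod p) ({ρ g} : Set (Module.End (ZMod p) W)) := by
      apply Algebra.adjoin_le
      intro x hx
      rw [Set.mem_singleton_iff] at hx
      subst hx
      rw [SetLike.mem_coe, Subalgebra.mem_centralizer_iff]
      intro y hy
      rw [Set.mem_singleton_iff] at hy
      subst hy
      exact hργ g
    have h1 := hle he
    rw [Subalgebra.mem_centralizer_iff] at h1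
    exact (h1 (ρ g) (Set.mem_singleton _)).symm
  -- fixed points are trivial
  obtain ⟨y₀, hy₀⟩ := hnp
  have hne1 : ρ a ≠ 1 ∨ ρ b ≠ 1 := by
    by_contra hcon
    rw [not_or, not_not, not_not] at hcon
    obtain ⟨h1, h2⟩ := hcon
    have hall : ∀ g : Γ, ρ g = 1 := by
      intro g
      have hg : g ∈ Subgroup.closure ({a, b} : Set Γ) := hgen ▸ Subgroup.mem_top g
      have hle : Subgroup.closure ({a, b} : Set Γ) ≤ ρ.ker := by
        rw [Subgroup.closure_le]
        intro x hx
        rcases hx with rfl | hx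
        · exact h1
        · rw [Set.mem_singleton_iff] at hx
          subst hx
          exact h2
      exact hle hg
    exact hy₀ 0 (hall _)
  have hfix : ∀ w : W, α w = 0 → β w = 0 → w = 0 := by
    intro w hw1 hw2
    let U : AddSubgroup W :=
      { carrier := {u | α u = 0 ∧ β u = 0}
        add_mem' := by
          rintro x y ⟨hx1, hx2⟩ ⟨hy1, hy2⟩
          exact ⟨by rw [map_add, hx1, hy1, add_zero], by rw [map_add, hx2, hy2, add_zero]⟩
        zero_mem' := ⟨map_zero _, map_zero _⟩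
        neg_mem' := by
          rintro x ⟨hx1, hx2⟩
          exact ⟨by rw [map_neg, hx1, neg_zero], by rw [map_neg, hx2, neg_zero]⟩ }
    have hUa : ∀ u ∈ U, ρ a u = u := by
      rintro u ⟨hu1, -⟩
      rw [hρa, LinearMap.add_apply, hu1, zero_add]; rfl
    have hUb : ∀ u ∈ U, ρ b u = u := by
      rintro u ⟨-, hu2⟩
      rw [hρb, LinearMap.add_apply, hu2, zero_add]; rfl
    rcases hirr U (fun u hu => by rw [hUa u hu]; exact hu) (fun u hu => by rw [hUb u hu]; exact hu)
      with hU | hU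
    · have : w ∈ U := ⟨hw1, hw2⟩
      rw [hU, AddSubgroup.mem_bot] at this
      exact this
    · exfalso
      have hall : ∀ u : W, α u = 0 ∧ β u = 0 := by
        intro u
        have : u ∈ U := by rw [hU]; exact AddSubgroup.mem_top u
        exact this
      rcases hne1 with h | h
      · apply h
        rw [hρa]
        ext u
        rw [LinearMap.add_apply, (hall u).1, zero_add]
      · apply h
        rw [hρb]
        ext u
        rw [LinearMap.add_apply, (hall u).2, zero_add]
  have hWnt : Nontrivial W := by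
    by_contra hW
    rw [not_nontrivial_iff_subsingleton] at hW
    apply hy₀ 0
    ext w
    exact Subsingleton.elim _ _
  -- nonzero elements of the subalgebra are injective
  have hinj : ∀ e ∈ Algebra.adjoin (ZMod p) ({γ} : Set (Module.End (ZMod p) W)), e ≠ 0 →
      ∀ w : W, e w = 0 → w = 0 := by
    intro e he hne w hw
    have hca : ∀ u, e (ρ a u) = ρ a (e u) := fun u =>
      congrArg (fun T : Module.End (ZMod p) W => T u) (hEcomm e he a)
    have hcb : ∀ u, e (ρ b u) = ρ b (e u) := fun u =>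
      congrArg (fun T : Module.End (ZMod p) W => T u) (hEcomm e he b)
    rcases hirr (LinearMap.ker e).toAddSubgroup
      (fun u hu => by
        rw [Submodule.mem_toAddSubgroup, LinearMap.mem_ker] at hu ⊢
        rw [hca, hu, map_zero])
      (fun u hu => by
        rw [Submodule.mem_toAddSubgroup, LinearMap.mem_ker] at hu ⊢
        rw [hcb, hu, map_zero]) with hU | hU
    · have : w ∈ (LinearMap.ker e).toAddSubgroup := by
        rw [Submodule.mem_toAddSubgroup, LinearMap.mem_ker]; exact hw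
      rw [hU, AddSubgroup.mem_bot] at this
      exact this
    · exfalso
      apply hne
      ext u
      have : u ∈ (LinearMap.ker e).toAddSubgroup := by rw [hU]; exact AddSubgroup.mem_top u
      rw [Submodule.mem_toAddSubgroup, LinearMap.mem_ker] at this
      rw [this]; rfl
  have hdom : ∀ e₁ e₂ : Module.End (ZMod p) W,
      e₁ ∈ Algebra.adjoin (ZMod p) ({γ} : Set (Module.End (ZMod p) W)) →
      e₂ ∈ Algebra.adjoin (ZMod p) ({γ} : Set (Module.End (ZMod p) W)) →
      e₁ * e₂ = 0 → e₁ = 0 ∨ e₂ = 0 := by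
    intro e₁ e₂ he₁ _ h
    by_cases h1 : e₁ = 0
    · exact Or.inl h1
    · right
      ext u
      have h2 : e₁ (e₂ u) = 0 := congrArg (fun T : Module.End (ZMod p) W => T u) h
      rw [hinj e₁ he₁ h1 _ h2]; rfl
  haveI : Finite (Module.End (ZMod p) W) :=
    Finite.of_injective (fun f : Module.End (ZMod p) W => (f : W → W)) DFunLike.coe_injective
  have hpA : ((p : ℕ) : Module.End (ZMod p) W) = 0 := by
    ext u
    rw [Module.End.natCast_apply, LinearMap.zero_apply]
    exact ZModModule.char_nsmul_eq_zero p u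
  have h10 : (1 : Module.End (ZMod p) W) ≠ 0 := by
    intro h
    obtain ⟨u, hu⟩ := exists_ne (0 : W)
    apply hu
    have := congrArg (fun T : Module.End (ZMod p) W => T u) h
    exact this
  obtain ⟨F, instF, instFin, instChar, ι, hι⟩ :=
    exists_field_of_adjoin (R := ZMod p) hpA h10 γ hdom
  have hιmem : ∀ f : F, ι f ∈ Algebra.adjoin (ZMod p) ({γ} : Set (Module.End (ZMod p) W)) := by
    intro f
    have : ι f ∈ Set.range ι := ⟨f, rfl⟩
    rw [hι] at this
    exact this
  have hcommF : ∀ (f : F) (g : Γ), ι f * ρ g = ρ g * ι f := fun f g => hEcomm _ (hιmem f) g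
  obtain ⟨c, hc⟩ : ∃ c : F, ι c = γ := by
    have : γ ∈ Set.range ι := by
      rw [hι]
      exact Algebra.subset_adjoin (Set.mem_singleton γ)
    exact this
  have hιinj : ∀ f : F, f ≠ 0 → ∀ w : W, ι f w = 0 → w = 0 := by
    intro f hf w hw
    have h1 : ι f⁻¹ * ι f = 1 := by rw [← map_mul, inv_mul_cancel₀ hf, map_one]
    have h2 := congrArg (fun T : Module.End (ZMod p) W => T w) h1
    simp only [Module.End.mul_apply, Module.End.one_apply] at h2
    rw [← h2, hw, map_zero]
  -- a nonzero vector killed by `α`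
  obtain ⟨v, hv0, hαv⟩ : ∃ v : W, v ≠ 0 ∧ α v = 0 := by
    by_cases hα0 : α = 0
    · obtain ⟨u, hu⟩ := exists_ne (0 : W)
      exact ⟨u, hu, by rw [hα0]; rfl⟩
    · have : ∃ u, α u ≠ 0 := by
        by_contra hcon
        rw [not_exists] at hcon
        have hcon : ∀ u, α u = 0 := fun u => not_not.mp (hcon u)
        apply hα0
        ext u
        rw [hcon u]; rfl
      obtain ⟨u, hu⟩ := this
      refine ⟨α u, hu, ?_⟩
      have := congrArg (fun T : Module.End (ZMod p) W => T u) ha
      exact this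
  obtain ⟨e₂, he₂⟩ : ∃ e₂ : W, e₂ = β v := ⟨_, rfl⟩
  have hββ : ∀ u, β (β u) = 0 := fun u => congrArg (fun T : Module.End (ZMod p) W => T u) hb
  have hβe : β e₂ = 0 := by rw [he₂]; exact hββ v
  have he₂0 : e₂ ≠ 0 := by
    intro h
    exact hv0 (hfix v hαv (by rw [← he₂]; exact h))
  have hav : ρ a v = v := by
    rw [hρa, LinearMap.add_apply, hαv, zero_add]; rfl
  have hγv : γ v = α e₂ := by
    rw [he₂, hγ, LinearMap.add_apply, Module.End.mul_apply, Module.End.mul_apply, hαv, map_zero,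
      add_zero]
  have hae : ρ a e₂ = e₂ + ι c v := by
    rw [hc, hγv, hρa, LinearMap.add_apply, Module.End.one_apply, add_comm]
  have hbv : ρ b v = v + e₂ := by
    rw [he₂, hρb, LinearMap.add_apply, Module.End.one_apply, add_comm]
  have hbe : ρ b e₂ = e₂ := by
    rw [hρb, LinearMap.add_apply, Module.End.one_apply, hβe, zero_add]
  have hιβ : ∀ (f : F) (u : W), β (ι f u) = ι f (β u) := by
    intro f u
    have h1 := congrArg (fun T : Module.End (ZMod p) W => T u) (hcommF f b)
    simp only [Module.End.mul_apply] at h1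
    rw [hρb, LinearMap.add_apply, LinearMap.add_apply, Module.End.one_apply,
      Module.End.one_apply, map_add] at h1
    exact (add_right_cancel h1).symm
  have hιa : ∀ (f : F) (u : W), ρ a (ι f u) = ι f (ρ a u) := fun f u =>
    (congrArg (fun T : Module.End (ZMod p) W => T u) (hcommF f a)).symm
  have hιb : ∀ (f : F) (u : W), ρ b (ι f u) = ι f (ρ b u) := fun f u =>
    (congrArg (fun T : Module.End (ZMod p) W => T u) (hcommF f b)).symm
  have hind : ∀ f₁ f₂ : F, ι f₁ v + ι f₂ e₂ = 0 → f₁ = 0 ∧ f₂ = 0 := by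
    intro f₁ f₂ h
    have h1 := congrArg β h
    rw [map_add, hιβ, hιβ, hβe, map_zero, map_zero, add_zero, ← he₂] at h1
    have hf₁ : f₁ = 0 := by
      by_contra hf
      exact he₂0 (hιinj f₁ hf _ h1)
    refine ⟨hf₁, ?_⟩
    rw [hf₁, map_zero, LinearMap.zero_apply, zero_add] at h
    by_contra hf
    exact he₂0 (hιinj f₂ hf _ h)
  have hspan : ∀ w, ∃ f₁ f₂ : F, w = ι f₁ v + ι f₂ e₂ := by
    let U : AddSubgroup W :=
      { carrier := {w | ∃ f₁ f₂ : F, w = ι f₁ v + ι f₂ e₂}
        add_mem' := by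
          rintro x y ⟨f₁, f₂, rfl⟩ ⟨g₁, g₂, rfl⟩
          refine ⟨f₁ + g₁, f₂ + g₂, ?_⟩
          rw [map_add, map_add, LinearMap.add_apply, LinearMap.add_apply]
          abel
        zero_mem' := ⟨0, 0, by rw [map_zero, LinearMap.zero_apply, LinearMap.zero_apply, add_zero]⟩
        neg_mem' := by
          rintro x ⟨f₁, f₂, rfl⟩
          refine ⟨-f₁, -f₂, ?_⟩
          rw [map_neg, map_neg, LinearMap.neg_apply, LinearMap.neg_apply]
          abel }
    have hUa : ∀ u ∈ U, ρ a u ∈ U := by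
      rintro u ⟨f₁, f₂, rfl⟩
      refine ⟨f₁ + f₂ * c, f₂, ?_⟩
      rw [map_add, hιa, hιa, hav, hae, map_add, map_add, map_mul, LinearMap.add_apply,
        Module.End.mul_apply]
      abel
    have hUb : ∀ u ∈ U, ρ b u ∈ U := by
      rintro u ⟨f₁, f₂, rfl⟩
      refine ⟨f₁, f₁ + f₂, ?_⟩
      rw [map_add, hιb, hιb, hbv, hbe, map_add, map_add, LinearMap.add_apply]
      abel
    rcases hirr U hUa hUb with hU | hU
    · exfalso
      have : v ∈ U := ⟨1, 0, by
        rw [map_one, map_zero, Module.End.one_apply, LinearMap.zero_apply, add_zero]⟩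
      rw [hU, AddSubgroup.mem_bot] at this
      exact hv0 this
    · intro w
      have : w ∈ U := by rw [hU]; exact AddSubgroup.mem_top w
      exact this
  exact natural_pair_of_hom hp2 ρ ι hcommF a b hgen v e₂ c hspan hind hav hae hbv hbe ⟨y₀, hy₀⟩

end la

end Cfsg.Agent.Lib.Helper2
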