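import Mathlib
import Cfsg.Agent.Lib.Helper2.QdLin

set_option autoImplicit false

namespace Cfsg.Agent.Lib.Helper2

open Matrix
open Cfsg.Agent.Lib.Helper40 (sl2Up sl2Lo)

section linrep

variable {p : ℕ} {Γ : Type*} [Group Γ] {A : Type*} [CommGroup A] [Module (ZMod p) (Additive A)]

/-- the `𝔽_p`-linear action attached to an action by automorphisms on an elementary abelian
group (written additively). -/
def linRep (θ : Γ →* MulAut A) : Γ →* Module.End (ZMod p) (Additive A) where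
  toFun g := (MulEquiv.toAdditive (θ g)).toAddMonoidHom.toZModLinearMap p
  map_one' := by
    apply LinearMap.ext
    intro x
    rw [Module.End.one_apply]
    show Additive.ofMul (θ 1 (Additive.toMul x)) = x
    rw [map_one]; rfl
  map_mul' g h := by
    apply LinearMap.ext
    intro x
    rw [Module.End.mul_apply]
    show Additive.ofMul (θ (g * h) (Additive.toMul x)) =
      Additive.ofMul (θ g (Additive.toMul (Additive.ofMul (θ h (Additive.toMul x)))))
    rw [map_mul]; rfl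

theorem linRep_apply (θ : Γ →* MulAut A) (g : Γ) (x : Additive A) :
    linRep (p := p) θ g x = Additive.ofMul (θ g (Additive.toMul x)) := rfl

theorem linRep_eq_one (θ : Γ →* MulAut A) (g : Γ) (hg : linRep (p := p) θ g = 1) : θ g = 1 := by
  ext v
  have := congrArg (fun T : Module.End (ZMod p) (Additive A) => T (Additive.ofMul v)) hg
  exact this

theorem linRep_quad (θ : Γ →* MulAut A) (g : Γ) (hg : ∀ v : A, θ g (θ g v / v) = θ g v / v) :
    (linRep (p := p) θ g - 1) * (linRep (p := p) θ g - 1) = 0 := by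
  apply LinearMap.ext
  intro x
  simp only [Module.End.mul_apply, LinearMap.sub_apply, Module.End.one_apply,
    LinearMap.zero_apply]
  have := hg (Additive.toMul x)
  rw [sub_eq_zero, linRep_apply, linRep_apply]
  have h2 : Additive.ofMul (θ g (Additive.toMul x)) - x =
      Additive.ofMul (θ g (Additive.toMul x) / Additive.toMul x) := rfl
  rw [h2, toMul_ofMul, this]

end linrep

section linnat

variable {p : ℕ} [Fact p.Prime]
variable {W : Type*} [AddCommGroup W] [Module (ZMod p) W] {Γ : Type*} [Group Γ]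

/-- a group generated by two elements acting on a two-dimensional `𝔽_p`-space as the standard
unipotent generators maps onto `SL₂(p)`, compatibly with the action. -/
theorem exists_sl2_natural_lin (ρ : Γ →* Module.End (ZMod p) W) (x₁ y₁ : Γ)
    (hgen : Subgroup.closure {x₁, y₁} = ⊤) (bs : Module.Basis (Fin 2) (ZMod p) W)
    (h1 : ρ x₁ (bs 0) = bs 0) (h2 : ρ x₁ (bs 1) = bs 0 + bs 1)
    (h3 : ρ y₁ (bs 0) = bs 0 + bs 1) (h4 : ρ y₁ (bs 1) = bs 1) :
    ∃ φ : Γ →* SpecialLinearGroup (Fin 2) (ZMod p), Function.Surjective φ ∧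
      ∀ g w, bs.equivFun (ρ g w) = ((φ g : SpecialLinearGroup (Fin 2) (ZMod p)) :
        Matrix (Fin 2) (Fin 2) (ZMod p)).mulVec (bs.equivFun w) := by
  classical
  let m : Γ →* Matrix (Fin 2) (Fin 2) (ZMod p) :=
    ((LinearMap.toMatrixAlgEquiv bs : Module.End (ZMod p) W ≃ₐ[ZMod p]
      Matrix (Fin 2) (Fin 2) (ZMod p)) :
      Module.End (ZMod p) W →* Matrix (Fin 2) (Fin 2) (ZMod p)).comp ρ
  have hm : ∀ g, m g = LinearMap.toMatrix bs bs (ρ g) := fun g => rfl
  have hrepr : ∀ g w, bs.equivFun (ρ g w) = (m g).mulVec (bs.equivFun w) := by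
    intro g w
    rw [hm]
    exact (LinearMap.toMatrix_mulVec_repr bs bs (ρ g) w).symm
  have hmx : m x₁ = !![1, 1; 0, 1] := by
    ext i j
    rw [hm, LinearMap.toMatrix_apply]
    fin_cases i <;> fin_cases j <;> simp [h1, h2]
  have hmy : m y₁ = !![1, 0; 1, 1] := by
    ext i j
    rw [hm, LinearMap.toMatrix_apply]
    fin_cases i <;> fin_cases j <;> simp [h3, h4]
  have hdet : ∀ g, (m g).det = 1 := by
    intro g
    have hg : g ∈ Subgroup.closure ({x₁, y₁} : Set Γ) := hgen ▸ Subgroup.mem_top g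
    induction hg using Subgroup.closure_induction with
    | mem x hx =>
      rcases hx with rfl | hx
      · rw [hmx, Matrix.det_fin_two_of]; ring
      · rw [Set.mem_singleton_iff] at hx
        subst hx
        rw [hmy, Matrix.det_fin_two_of]; ring
    | one => rw [map_one, det_one]
    | mul x y _ _ hx hy => rw [map_mul, det_mul, hx, hy, one_mul]
    | inv x _ hx =>
      have h1 : (m x⁻¹).det * (m x).det = 1 := by
        rw [← det_mul, ← map_mul, inv_mul_cancel, map_one, det_one]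
      rwa [hx, mul_one] at h1
  let φ : Γ →* SpecialLinearGroup (Fin 2) (ZMod p) :=
    { toFun := fun g => ⟨m g, hdet g⟩
      map_one' := Subtype.ext (map_one m)
      map_mul' := fun g h => Subtype.ext (map_mul m g h) }
  refine ⟨φ, ?_, hrepr⟩
  have hφx : φ x₁ = sl2Up 1 := Subtype.ext hmx
  have hφy : φ y₁ = sl2Lo 1 := Subtype.ext hmy
  have hr : φ.range = ⊤ := by
    rw [MonoidHom.range_eq_map, ← hgen, MonoidHom.map_closure, Set.image_pair, hφx, hφy]
    exact Cfsg.Agent.Lib.Helper54.closure_sl2_zmod p 1 one_ne_zero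
  exact MonoidHom.range_eq_top.mp hr

end linnat

section mulnat

variable {p : ℕ} [Fact p.Prime] {Γ : Type*} [Group Γ]

theorem exists_sl2_natural_aux {A : Type*} [CommGroup A] [Module (ZMod p) (Additive A)]
    (θ : Γ →* MulAut A) (x₁ y₁ : Γ) (hgen : Subgroup.closure {x₁, y₁} = ⊤) (w₁ w₂ : A)
    (hspan : Subgroup.closure {w₁, w₂} = ⊤)
    (hind : ∀ m n : ℕ, w₁ ^ m * w₂ ^ n = 1 → p ∣ m ∧ p ∣ n)
    (h1 : θ x₁ w₁ = w₁) (h2 : θ x₁ w₂ = w₁ * w₂) (h3 : θ y₁ w₁ = w₁ * w₂) (h4 : θ y₁ w₂ = w₂) :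
    ∃ (φ : Γ →* SpecialLinearGroup (Fin 2) (ZMod p)) (ψ : Additive A ≃+ (Fin 2 → ZMod p)),
      Function.Surjective φ ∧ ∀ (g : Γ) (w : A), ψ (Additive.ofMul (θ g w)) =
        ((φ g : SpecialLinearGroup (Fin 2) (ZMod p)) :
          Matrix (Fin 2) (Fin 2) (ZMod p)).mulVec (ψ (Additive.ofMul w)) := by
  have hli : LinearIndependent (ZMod p) ![Additive.ofMul w₁, Additive.ofMul w₂] := by
    rw [LinearIndependent.pair_iff]
    intro s t hst
    rw [← ZMod.natCast_zmod_val s, ← ZMod.natCast_zmod_val t, Nat.cast_smul_eq_nsmul,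
      Nat.cast_smul_eq_nsmul] at hst
    have h5 : w₁ ^ s.val * w₂ ^ t.val = 1 := hst
    obtain ⟨h6, h7⟩ := hind _ _ h5
    constructor
    · rw [← ZMod.natCast_zmod_val s]
      exact (ZMod.natCast_eq_zero_iff _ _).mpr h6
    · rw [← ZMod.natCast_zmod_val t]
      exact (ZMod.natCast_eq_zero_iff _ _).mpr h7
  have hsp : ⊤ ≤ Submodule.span (ZMod p) (Set.range ![Additive.ofMul w₁, Additive.ofMul w₂]) := by
    intro x _
    have hx : Additive.toMul x ∈ Subgroup.closure ({w₁, w₂} : Set A) := by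
      rw [hspan]; exact Subgroup.mem_top _
    have key : ∀ a : A, a ∈ Subgroup.closure ({w₁, w₂} : Set A) → Additive.ofMul a ∈
        Submodule.span (ZMod p) (Set.range ![Additive.ofMul w₁, Additive.ofMul w₂]) := by
      intro a ha
      induction ha using Subgroup.closure_induction with
      | mem y hy =>
        rcases hy with rfl | hy
        · exact Submodule.subset_span ⟨0, rfl⟩
        · rw [Set.mem_singleton_iff] at hy
          subst hy
          exact Submodule.subset_span ⟨1, rfl⟩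
      | one => exact Submodule.zero_mem _
      | mul y z _ _ hy hz => exact Submodule.add_mem _ hy hz
      | inv y _ hy => exact Submodule.neg_mem _ hy
    exact key _ hx
  let bs : Module.Basis (Fin 2) (ZMod p) (Additive A) := Module.Basis.mk hli hsp
  have hb0 : bs 0 = Additive.ofMul w₁ := by
    show (Module.Basis.mk hli hsp) 0 = _
    rw [Module.Basis.mk_apply]; rfl
  have hb1 : bs 1 = Additive.ofMul w₂ := by
    show (Module.Basis.mk hli hsp) 1 = _
    rw [Module.Basis.mk_apply]; rfl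
  obtain ⟨φ, hφ, hrepr⟩ := exists_sl2_natural_lin (linRep (p := p) θ) x₁ y₁ hgen bs
    (by rw [hb0, linRep_apply, toMul_ofMul, h1])
    (by rw [hb0, hb1, linRep_apply, toMul_ofMul, h2]; rfl)
    (by rw [hb0, hb1, linRep_apply, toMul_ofMul, h3]; rfl)
    (by rw [hb1, linRep_apply, toMul_ofMul, h4])
  refine ⟨φ, bs.equivFun.toAddEquiv, hφ, ?_⟩
  intro g w
  exact hrepr g (Additive.ofMul w)

/-- multiplicative form of `exists_sl2_natural_lin`. -/
theorem exists_sl2_natural {A : Type*} [CommGroup A] (hA : ∀ x : A, x ^ p = 1)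
    (θ : Γ →* MulAut A) (x₁ y₁ : Γ) (hgen : Subgroup.closure {x₁, y₁} = ⊤) (w₁ w₂ : A)
    (hspan : Subgroup.closure {w₁, w₂} = ⊤)
    (hind : ∀ m n : ℕ, w₁ ^ m * w₂ ^ n = 1 → p ∣ m ∧ p ∣ n)
    (h1 : θ x₁ w₁ = w₁) (h2 : θ x₁ w₂ = w₁ * w₂) (h3 : θ y₁ w₁ = w₁ * w₂) (h4 : θ y₁ w₂ = w₂) :
    ∃ (φ : Γ →* SpecialLinearGroup (Fin 2) (ZMod p)) (ψ : Additive A ≃+ (Fin 2 → ZMod p)),
      Function.Surjective φ ∧ ∀ (g : Γ) (w : A), ψ (Additive.ofMul (θ g w)) =
        ((φ g : SpecialLinearGroup (Fin 2) (ZMod p)) :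
          Matrix (Fin 2) (Fin 2) (ZMod p)).mulVec (ψ (Additive.ofMul w)) :=
  @exists_sl2_natural_aux p _ Γ _ A _ (AddCommGroup.zmodModule (n := p) (fun x => by
    show Additive.ofMul (Additive.toMul x ^ p) = 0
    rw [hA]; rfl)) θ x₁ y₁ hgen w₁ w₂ hspan hind h1 h2 h3 h4

universe u

theorem exists_natural_pair_mul_aux {A : Type u} [CommGroup A] [Finite A]
    [Module (ZMod p) (Additive A)] (hp2 : p ≠ 2) (θ : Γ →* MulAut A) (a b : Γ)
    (hgen : Subgroup.closure {a, b} = ⊤)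
    (ha : ∀ v : A, θ a (θ a v / v) = θ a v / v) (hb : ∀ v : A, θ b (θ b v / v) = θ b v / v)
    (hirr : ∀ U : Subgroup A, (∀ u ∈ U, θ a u ∈ U) → (∀ u ∈ U, θ b u ∈ U) → U = ⊥ ∨ U = ⊤)
    (hnp : ∃ y : Γ, ∀ j : ℕ, θ (y ^ p ^ j) ≠ 1) :
    ∃ (x₁ y₁ : Γ) (w₁ w₂ : A), (∀ m n : ℕ, w₁ ^ m * w₂ ^ n = 1 → p ∣ m ∧ p ∣ n) ∧
      θ x₁ w₁ = w₁ ∧ θ x₁ w₂ = w₁ * w₂ ∧ θ y₁ w₁ = w₁ * w₂ ∧ θ y₁ w₂ = w₂ := by
  haveI : Finite (Additive A) := inferInstanceAs (Finite A)
  have hirr' : ∀ U : AddSubgroup (Additive A), (∀ u ∈ U, linRep (p := p) θ a u ∈ U) →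
      (∀ u ∈ U, linRep (p := p) θ b u ∈ U) → U = ⊥ ∨ U = ⊤ := by
    intro U hUa hUb
    have hmem : ∀ x : A, x ∈ AddSubgroup.toSubgroup' U ↔ Additive.ofMul x ∈ U := fun x => Iff.rfl
    rcases hirr (AddSubgroup.toSubgroup' U) (fun u hu => hUa _ hu) (fun u hu => hUb _ hu)
      with h | h
    · left
      rw [eq_bot_iff]
      intro x hx
      have h1 : Additive.toMul x ∈ AddSubgroup.toSubgroup' U := hx
      rw [h, Subgroup.mem_bot] at h1
      rw [AddSubgroup.mem_bot]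
      exact h1
    · right
      rw [eq_top_iff]
      intro x _
      have h1 : Additive.toMul x ∈ AddSubgroup.toSubgroup' U := by
        rw [h]; exact Subgroup.mem_top _
      exact h1
  have hnp' : ∃ y : Γ, ∀ j : ℕ, linRep (p := p) θ (y ^ p ^ j) ≠ 1 := by
    obtain ⟨y, hy⟩ := hnp
    exact ⟨y, fun j h => hy j (linRep_eq_one θ _ h)⟩
  obtain ⟨x₁, y₁, w₁, w₂, h1, h2, h3, h4, h5⟩ := exists_natural_pair hp2 (linRep (p := p) θ) a b
    hgen (linRep_quad θ a ha) (linRep_quad θ b hb) hirr' hnp'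
  refine ⟨x₁, y₁, Additive.toMul w₁, Additive.toMul w₂, ?_, ?_, ?_, ?_, ?_⟩
  · intro m n hmn
    exact h1 m n hmn
  · exact h2
  · exact h3
  · exact h4
  · exact h5

/-- **Quadratic pairs give natural `SL₂(p)`-modules** (abstract multiplicative form). -/
theorem exists_natural_pair_mul {A : Type u} [CommGroup A] [Finite A] (hp2 : p ≠ 2)
    (hA : ∀ x : A, x ^ p = 1) (θ : Γ →* MulAut A) (a b : Γ)
    (hgen : Subgroup.closure {a, b} = ⊤)
    (ha : ∀ v : A, θ a (θ a v / v) = θ a v / v) (hb : ∀ v : A, θ b (θ b v / v) = θ b v / v)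
    (hirr : ∀ U : Subgroup A, (∀ u ∈ U, θ a u ∈ U) → (∀ u ∈ U, θ b u ∈ U) → U = ⊥ ∨ U = ⊤)
    (hnp : ∃ y : Γ, ∀ j : ℕ, θ (y ^ p ^ j) ≠ 1) :
    ∃ (x₁ y₁ : Γ) (w₁ w₂ : A), (∀ m n : ℕ, w₁ ^ m * w₂ ^ n = 1 → p ∣ m ∧ p ∣ n) ∧
      θ x₁ w₁ = w₁ ∧ θ x₁ w₂ = w₁ * w₂ ∧ θ y₁ w₁ = w₁ * w₂ ∧ θ y₁ w₂ = w₂ :=
  @exists_natural_pair_mul_aux p _ Γ _ A _ _ (AddCommGroup.zmodModule (n := p) (fun x => by
    show Additive.ofMul (Additive.toMul x ^ p) = 0
    rw [hA]; rfl)) hp2 θ a b hgen ha hb hirr hnp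

end mulnat

end Cfsg.Agent.Lib.Helper2
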