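import Mathlib
import Cfsg.Prelude.Def_LocalEven
import Cfsg.Prelude.Def_PLocal
import Cfsg.Agent.Lib.Helper54.Qd2

set_option autoImplicit false

namespace Cfsg.Agent.Lib.Helper2

open Cfsg Matrix Cfsg.Agent.Lib.Helper54

section qdrec

variable {G : Type*} [Group G] {p : ℕ}

theorem qd_decomp_exists (W S : Subgroup G) (hSW : S ≤ Subgroup.normalizer (W : Set G)) (k : G)
    (hk : k ∈ W ⊔ S) : ∃ w ∈ W, ∃ s ∈ S, k = w * s := by
  have h := Subgroup.coe_mul_of_right_le_normalizer_left W S hSW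
  have hk' : k ∈ ((W ⊔ S : Subgroup G) : Set G) := hk
  rw [h] at hk'
  obtain ⟨w, hw, s, hs, rfl⟩ := Set.mem_mul.mp hk'
  exact ⟨w, hw, s, hs, rfl⟩

theorem qd_decomp_unique (W S : Subgroup G) (hdisj : W ⊓ S = ⊥) {w w' s s' : G} (hw : w ∈ W)
    (hw' : w' ∈ W) (hs : s ∈ S) (hs' : s' ∈ S) (h : w * s = w' * s') : w = w' ∧ s = s' := by
  have h1 : w'⁻¹ * w = s' * s⁻¹ := by
    rw [inv_mul_eq_iff_eq_mul, ← mul_assoc, ← h]; group
  have h2 : w'⁻¹ * w ∈ W ⊓ S :=
    Subgroup.mem_inf.2 ⟨W.mul_mem (W.inv_mem hw') hw, h1 ▸ S.mul_mem hs' (S.inv_mem hs)⟩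
  rw [hdisj, Subgroup.mem_bot] at h2
  have hww : w = w' := by rw [inv_mul_eq_one] at h2; exact h2.symm
  refine ⟨hww, ?_⟩
  subst hww
  exact mul_left_cancel h

/-- Recognition of `Qd(p)`: a subgroup `W ≅ 𝔽_p²` and a subgroup `S` meeting `W` trivially and
acting on `W` through a surjection onto `SL₂(p)` in the natural way give a section `Qd(p)`. -/
theorem involves_qd_of_split [Fact p.Prime] (W S : Subgroup G)
    (hSW : S ≤ Subgroup.normalizer (W : Set G)) (hdisj : W ⊓ S = ⊥)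
    (ρ : ↥S →* SpecialLinearGroup (Fin 2) (ZMod p))
    (ψ : Additive ↥W ≃+ (Fin 2 → ZMod p)) (hsurj : Function.Surjective ρ)
    (hcompat : ∀ (l : ↥S) (v : ↥W), ∃ w : ↥W, (w : G) = (l : G) * (v : G) * (l : G)⁻¹ ∧
      ψ (Additive.ofMul w) = ((ρ l : SpecialLinearGroup (Fin 2) (ZMod p)) :
        Matrix (Fin 2) (Fin 2) (ZMod p)).mulVec (ψ (Additive.ofMul v))) :
    Involves ↥(qd p) G := by
  classical
  set K : Subgroup G := W ⊔ S with hK
  have hWK : W ≤ K := le_sup_left
  have hSK : S ≤ K := le_sup_right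
  have hex : ∀ k : ↥K, ∃ ws : ↥W × ↥S, (k : G) = (ws.1 : G) * (ws.2 : G) := by
    intro k
    obtain ⟨w, hw, s, hs, h⟩ := qd_decomp_exists W S hSW k k.2
    exact ⟨(⟨w, hw⟩, ⟨s, hs⟩), h⟩
  choose d hd using hex
  have huniq : ∀ (k : ↥K) (w : ↥W) (s : ↥S), (k : G) = (w : G) * (s : G) → d k = (w, s) := by
    intro k w s h
    have := qd_decomp_unique W S hdisj (d k).1.2 w.2 (d k).2.2 s.2 ((hd k).symm.trans h)
    exact Prod.ext (Subtype.ext this.1) (Subtype.ext this.2)
  let τ : ↥W → ↥(affSub (ZMod p)) :=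
    fun w => tv (ψ (Additive.ofMul w) 0) (ψ (Additive.ofMul w) 1)
  have hτmul : ∀ w w' : ↥W, τ (w * w') = τ w * τ w' := by
    intro w w'
    show tv _ _ = tv _ _ * tv _ _
    rw [tv_mul, ofMul_mul, map_add]; rfl
  have hτ1 : τ 1 = 1 := by
    show tv _ _ = 1
    rw [ofMul_one, map_zero]
    exact tv_zero
  have hτone : ∀ w : ↥W, τ w = 1 → w = 1 := by
    intro w hw
    have h0 : τ w = tv 0 0 := by rw [hw, tv_zero]
    obtain ⟨h1, h2⟩ := tv_injective h0
    have h3 : ψ (Additive.ofMul w) = 0 := by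
      ext i; fin_cases i
      · exact h1
      · exact h2
    have h4 := ψ.injective (h3.trans (map_zero ψ).symm)
    exact h4
  let σ : ↥S →* ↥(affSub (ZMod p)) := (blockLift (R := ZMod p)).comp ρ
  have hσ : ∀ s, σ s = blockLift (ρ s) := fun s => rfl
  have hconj : ∀ (l : ↥S) (v w : ↥W), (w : G) = (l : G) * (v : G) * (l : G)⁻¹ →
      σ l * τ v = τ w * σ l := by
    intro l v w hw
    obtain ⟨w', hw', hψ⟩ := hcompat l v
    have hww : w' = w := Subtype.ext (hw'.trans hw.symm)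
    subst hww
    have h1 := conj_tv (σ l) (ψ (Additive.ofMul v) 0) (ψ (Additive.ofMul v) 1)
    have h2 : τ w' = σ l * τ v * (σ l)⁻¹ := by
      rw [h1]
      show tv _ _ = tv _ _
      rw [hψ, hσ, amat_blockLift_00, amat_blockLift_01, amat_blockLift_10, amat_blockLift_11]
      congr 1 <;> simp [Matrix.mulVec, dotProduct, Fin.sum_univ_two]
    rw [h2]; group
  let f : ↥K →* ↥(affSub (ZMod p)) :=
    { toFun := fun k => τ (d k).1 * σ (d k).2
      map_one' := by
        have h1 : d 1 = (1, 1) := huniq 1 1 1 (by simp)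
        rw [h1]
        show τ 1 * σ 1 = 1
        rw [hτ1, map_one, one_mul]
      map_mul' := by
        intro k k'
        obtain ⟨w'', hw'', -⟩ := hcompat (d k).2 (d k').1
        have h1 : d (k * k') = ((d k).1 * w'', (d k).2 * (d k').2) := by
          apply huniq
          simp only [Subgroup.coe_mul]
          rw [hd k, hd k', hw'']; group
        rw [h1]
        show τ ((d k).1 * w'') * σ ((d k).2 * (d k').2) =
          τ (d k).1 * σ (d k).2 * (τ (d k').1 * σ (d k').2)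
        rw [hτmul, map_mul, mul_assoc, mul_assoc, ← mul_assoc (σ (d k).2) (τ _),
          hconj _ _ _ hw'', mul_assoc] }
  have hf : ∀ k, f k = τ (d k).1 * σ (d k).2 := fun k => rfl
  have hfsurj : Function.Surjective f := by
    intro M
    obtain ⟨s, hs⟩ := hsurj (blockHom M)
    let w : ↥W := Additive.toMul (ψ.symm ![amat M 0 2, amat M 1 2])
    refine ⟨⟨(w : G) * (s : G), K.mul_mem (hWK w.2) (hSK s.2)⟩, ?_⟩
    rw [hf, huniq _ w s rfl]
    show tv (ψ (Additive.ofMul w) 0) (ψ (Additive.ofMul w) 1) * blockLift (ρ s) = M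
    have hw : ψ (Additive.ofMul w) = ![amat M 0 2, amat M 1 2] := by
      show ψ (ψ.symm _) = _
      rw [AddEquiv.apply_symm_apply]
    rw [hw, hs]
    exact (eq_tv_mul_blockLift M).symm
  let R : Subgroup G := (ρ.ker).map S.subtype
  have hbτ : ∀ w : ↥W, blockHom (τ w) = 1 := by
    intro w
    have : τ w ∈ (blockHom (R := ZMod p)).ker := tv_mem _ _
    exact MonoidHom.mem_ker.mp this
  have hker : f.ker = R.subgroupOf K := by
    ext k
    rw [MonoidHom.mem_ker, Subgroup.mem_subgroupOf, hf]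
    constructor
    · intro hk
      have h1 := congrArg (blockHom (R := ZMod p)) hk
      rw [map_mul, hbτ, one_mul, hσ, blockHom_blockLift, map_one] at h1
      rw [hσ, h1, map_one, mul_one] at hk
      have h2 := hτone _ hk
      refine ⟨(d k).2, MonoidHom.mem_ker.mpr h1, ?_⟩
      rw [hd k, h2]
      simp
    · rintro ⟨s, hs, hsk⟩
      have h1 : d k = (1, s) := by
        apply huniq
        rw [← hsk]; simp
      rw [h1]
      show τ 1 * σ s = 1
      rw [hτ1, hσ, MonoidHom.mem_ker.mp hs, map_one, one_mul]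
  have hnorm : (R.subgroupOf K).Normal := hker ▸ MonoidHom.normal_ker f
  refine ⟨K, R, hnorm, ⟨?_⟩⟩
  exact ((QuotientGroup.quotientMulEquivOfEq hker.symm).trans
    (QuotientGroup.quotientKerEquivOfSurjective f hfsurj)).trans
      (MulEquiv.subgroupCongr (qd_eq p).symm)

end qdrec

section negI

variable {p : ℕ}

/-- the central involution of `SL₂(ZMod p)` -/
def negI2 (p : ℕ) : SpecialLinearGroup (Fin 2) (ZMod p) :=
  ⟨!![-1, 0; 0, -1], by simp [Matrix.det_fin_two_of]⟩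

theorem negI2_coe : ((negI2 p : SpecialLinearGroup (Fin 2) (ZMod p)) :
    Matrix (Fin 2) (Fin 2) (ZMod p)) = !![-1, 0; 0, -1] := rfl

theorem negI2_comm (B : SpecialLinearGroup (Fin 2) (ZMod p)) : B * negI2 p = negI2 p * B := by
  apply Subtype.ext
  show (B : Matrix (Fin 2) (Fin 2) (ZMod p)) * (negI2 p : Matrix (Fin 2) (Fin 2) (ZMod p)) =
    (negI2 p : Matrix (Fin 2) (Fin 2) (ZMod p)) * (B : Matrix (Fin 2) (Fin 2) (ZMod p))
  rw [negI2_coe]
  ext i j
  fin_cases i <;> fin_cases j <;> simp [Matrix.mul_apply, Fin.sum_univ_two]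

theorem negI2_mulVec (v : Fin 2 → ZMod p) :
    ((negI2 p : SpecialLinearGroup (Fin 2) (ZMod p)) :
      Matrix (Fin 2) (Fin 2) (ZMod p)).mulVec v = -v := by
  rw [negI2_coe]
  ext i
  fin_cases i <;> simp [Matrix.mulVec, dotProduct, Fin.sum_univ_two]

theorem negI2_sq : negI2 p * negI2 p = 1 := by
  apply Subtype.ext
  show (negI2 p : Matrix (Fin 2) (Fin 2) (ZMod p)) * (negI2 p : Matrix (Fin 2) (Fin 2) (ZMod p)) =
    (1 : Matrix (Fin 2) (Fin 2) (ZMod p))
  rw [negI2_coe]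
  ext i j
  fin_cases i <;> fin_cases j <;> simp [Matrix.mul_apply, Fin.sum_univ_two]

end negI

section qdnat

variable {G : Type*} [Group G] [Finite G] {p : ℕ} [Fact p.Prime]

/-- A natural `SL₂(p)`-module configuration (`p` odd) inside a finite group gives a section
isomorphic to `Qd(p)` (Frattini argument on the preimage of the central involution). -/
theorem involves_qd_of_natural (hp : p ≠ 2) (W M : Subgroup G)
    (h : IsNaturalSL2Module (ZMod p) W M) : Involves ↥(qd p) G := by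
  classical
  obtain ⟨hMW, ρ, ψ, hsurj, -, hcompat⟩ := h
  have hpp : p.Prime := Fact.out
  set negI : SpecialLinearGroup (Fin 2) (ZMod p) := negI2 p with hnegI
  have hnegc : ∀ B : SpecialLinearGroup (Fin 2) (ZMod p), B * negI = negI * B := negI2_comm
  have hnegv : ∀ v : Fin 2 → ZMod p,
      (negI : Matrix (Fin 2) (Fin 2) (ZMod p)).mulVec v = -v := negI2_mulVec
  have hneg2 : negI * negI = 1 := negI2_sq
  -- a 2-element `t` of `M` mapping to `-1`
  obtain ⟨z₀, hz₀⟩ := hsurj negI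
  obtain ⟨k, m, hm, hkm⟩ := Nat.exists_eq_two_pow_mul_odd (orderOf_pos z₀).ne'
  set t : ↥M := z₀ ^ m with ht
  have ht2 : t ^ (2 ^ k) = 1 := by
    rw [ht, ← pow_mul, mul_comm, ← hkm, pow_orderOf_eq_one]
  have hρt : ρ t = negI := by
    rw [ht, map_pow, hz₀]
    obtain ⟨j, rfl⟩ := hm
    rw [pow_succ, pow_mul, pow_two, hneg2, one_pow, one_mul]
  -- the preimage of `⟨-1⟩`
  let Z : Subgroup ↥M := (Subgroup.zpowers negI).comap ρ
  have hZn : Z.Normal := by
    constructor
    intro z hz m'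
    have hz' : ρ z ∈ Subgroup.zpowers negI := hz
    show ρ (m' * z * m'⁻¹) ∈ Subgroup.zpowers negI
    rw [map_mul, map_mul, map_inv]
    obtain ⟨i, hi⟩ := Subgroup.mem_zpowers_iff.mp hz'
    have hc : ρ m' * ρ z = ρ z * ρ m' := by
      rw [← hi]
      exact (Commute.zpow_right (hnegc (ρ m')) i).eq
    rw [hc, mul_assoc, mul_inv_cancel, mul_one]
    exact hz'
  have htZ : t ∈ Z := by
    show ρ t ∈ Subgroup.zpowers negI
    rw [hρt]
    exact Subgroup.mem_zpowers negI
  have hfp2 : Fact (Nat.Prime 2) := ⟨Nat.prime_two⟩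
  have htp : IsPGroup 2 ↥(Subgroup.zpowers (⟨t, htZ⟩ : ↥Z)) := by
    have h1 : orderOf (⟨t, htZ⟩ : ↥Z) ∣ 2 ^ k := by
      apply orderOf_dvd_of_pow_eq_one
      apply Subtype.ext
      rw [Subgroup.coe_pow, Subgroup.coe_one]
      exact ht2
    obtain ⟨j, -, hj⟩ := (Nat.dvd_prime_pow Nat.prime_two).1 h1
    apply IsPGroup.of_card (n := j)
    rw [Nat.card_zpowers, hj]
  obtain ⟨T, hT⟩ := htp.exists_le_sylow
  have htT : (⟨t, htZ⟩ : ↥Z) ∈ T := hT (Subgroup.mem_zpowers _)
  set T' : Subgroup ↥M := (T : Subgroup ↥Z).map Z.subtype with hT'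
  have htT' : t ∈ T' := ⟨⟨t, htZ⟩, htT, rfl⟩
  set S' : Subgroup ↥M := Subgroup.normalizer (T' : Set ↥M) with hS'
  have hfr : S' ⊔ Z = ⊤ := Sylow.normalizer_sup_eq_top T
  have htS' : t ∈ S' := Subgroup.le_normalizer htT'
  set S : Subgroup G := S'.map M.subtype with hS
  have hSM : S ≤ M := Subgroup.map_subtype_le S'
  let ρS : ↥S →* SpecialLinearGroup (Fin 2) (ZMod p) := ρ.comp (Subgroup.inclusion hSM)
  have hρS : ∀ (s : ↥M) (hs : (s : G) ∈ S), ρS ⟨(s : G), hs⟩ = ρ s := by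
    intro s hs
    rfl
  -- surjectivity
  have hsurjS : Function.Surjective ρS := by
    intro B
    obtain ⟨m', hm'⟩ := hsurj B
    have hmem : m' ∈ ((S' ⊔ Z : Subgroup ↥M) : Set ↥M) := by
      rw [hfr]; exact Subgroup.mem_top m'
    rw [Subgroup.mul_normal] at hmem
    obtain ⟨s, hs, z, hz, rfl⟩ := Set.mem_mul.mp hmem
    have hz' : ρ z ∈ Subgroup.zpowers negI := hz
    obtain ⟨i, hi⟩ := Subgroup.mem_zpowers_iff.mp hz'
    have h1 : s * t ^ i ∈ S' := S'.mul_mem hs (S'.zpow_mem htS' i)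
    refine ⟨⟨((s * t ^ i : ↥M) : G), ⟨s * t ^ i, h1, rfl⟩⟩, ?_⟩
    show ρ (s * t ^ i) = B
    rw [map_mul, map_zpow, hρt, hi, ← map_mul, hm']
  -- exponent of `W`
  have hWp : ∀ w : ↥W, w ^ p = 1 := by
    intro w
    have h1 : ψ (Additive.ofMul (w ^ p)) = 0 := by
      rw [ofMul_pow, map_nsmul]
      ext i
      simp
    exact ψ.injective (h1.trans (map_zero ψ).symm)
  have h2ne : (2 : ZMod p) ≠ 0 := by
    intro h2
    have h3 : ((2 : ℕ) : ZMod p) = 0 := by exact_mod_cast h2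
    rw [ZMod.natCast_eq_zero_iff] at h3
    exact hp ((Nat.prime_dvd_prime_iff_eq hpp Nat.prime_two).mp h3)
  -- disjointness
  have hdisj : W ⊓ S = ⊥ := by
    rw [eq_bot_iff]
    intro x hx
    obtain ⟨hxW, hxS⟩ := Subgroup.mem_inf.mp hx
    obtain ⟨s, hsS', hsx⟩ := hxS
    rw [Subgroup.mem_bot]
    have hsx' : (s : G) = x := hsx
    set c : ↥M := s * t * s⁻¹ * t⁻¹ with hc
    have hcT : c ∈ T' :=
      T'.mul_mem ((Subgroup.mem_normalizer_iff.mp hsS' t).mp htT') (T'.inv_mem htT')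
    have htN : (t : G) ∈ Subgroup.normalizer (W : Set G) := hMW t.2
    have hcW : (c : G) ∈ W := by
      have h1 : (c : G) = x * ((t : G) * x⁻¹ * (t : G)⁻¹) := by
        rw [hc, ← hsx']
        simp only [Subgroup.coe_mul, Subgroup.coe_inv]
        group
      rw [h1]
      exact W.mul_mem hxW ((Subgroup.mem_normalizer_iff.mp htN x⁻¹).mp (W.inv_mem hxW))
    obtain ⟨c', hc'T, hc'c⟩ := hcT
    obtain ⟨j, hj⟩ := T.isPGroup' ⟨c', hc'T⟩
    have hc2 : c ^ (2 ^ j) = 1 := by
      have h1 := congrArg (fun y : ↥T => ((y : ↥Z) : ↥M)) hj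
      simp only [Subgroup.coe_pow, Subgroup.coe_one] at h1
      rw [← hc'c]
      exact h1
    have hcp : c ^ p = 1 := by
      have h1 := hWp ⟨(c : G), hcW⟩
      have h2 := congrArg (fun y : ↥W => (y : G)) h1
      simp only [Subgroup.coe_pow, Subgroup.coe_one] at h2
      apply Subtype.ext
      rw [Subgroup.coe_pow, Subgroup.coe_one]
      exact h2
    have hcop : Nat.gcd (2 ^ j) p = 1 := by
      apply Nat.Coprime.pow_left
      exact (Nat.coprime_primes Nat.prime_two hpp).mpr (Ne.symm hp)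
    have hc1 : c = 1 := by
      have := (pow_gcd_eq_one (a := c)).mpr ⟨hc2, hcp⟩
      rwa [hcop, pow_one] at this
    have hcomm : (t : G) * x * (t : G)⁻¹ = x := by
      have h1 : s * t * s⁻¹ * t⁻¹ = 1 := hc1
      have h2 : s * t = t * s := by
        have := congrArg (fun y => y * t * s) h1
        simp only [one_mul] at this
        rw [← this]; group
      have h3 := congrArg (fun y : ↥M => (y : G)) h2
      simp only [Subgroup.coe_mul] at h3
      rw [hsx'] at h3
      rw [← h3]; group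
    obtain ⟨w', hw', hψ⟩ := hcompat t ⟨x, hxW⟩
    have hw'x : w' = ⟨x, hxW⟩ := Subtype.ext (hw'.trans hcomm)
    rw [hw'x, hρt, hnegv] at hψ
    have h0 : ψ (Additive.ofMul (⟨x, hxW⟩ : ↥W)) = 0 := by
      ext i
      have h1 := congrFun hψ i
      simp only [Pi.neg_apply, Pi.zero_apply] at h1 ⊢
      have h2 : (2 : ZMod p) * ψ (Additive.ofMul (⟨x, hxW⟩ : ↥W)) i = 0 := by
        linear_combination h1
      rcases mul_eq_zero.mp h2 with h3 | h3
      · exact absurd h3 h2ne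
      · exact h3
    have h1 : (⟨x, hxW⟩ : ↥W) = 1 := ψ.injective (h0.trans (map_zero ψ).symm)
    exact congrArg (fun y : ↥W => (y : G)) h1
  have hcompatS : ∀ (l : ↥S) (v : ↥W), ∃ w : ↥W, (w : G) = (l : G) * (v : G) * (l : G)⁻¹ ∧
      ψ (Additive.ofMul w) = ((ρS l : SpecialLinearGroup (Fin 2) (ZMod p)) :
        Matrix (Fin 2) (Fin 2) (ZMod p)).mulVec (ψ (Additive.ofMul v)) := by
    intro l v
    exact hcompat (Subgroup.inclusion hSM l) v
  exact involves_qd_of_split W S (hSM.trans hMW) hdisj ρS ψ hsurjS hcompatS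

end qdnat

end Cfsg.Agent.Lib.Helper2
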