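import Mathlib
import Cfsg.Prelude.Def_LocalEven
import Cfsg.Prelude.Def_PLocal
import Cfsg.Prelude.Def_Transfer
import Cfsg.Agent.Lib.Helper2.QdNat
import Cfsg.Agent.Lib.Helper2.QdRec
import Cfsg.Agent.Lib.Helper14.QuadSylow
import Cfsg.Agent.Lib.Helper59.Replace

set_option autoImplicit false

namespace Cfsg.Agent.Lib.Helper2

open Cfsg Matrix
open Cfsg.Agent.Lib.Helper14 (conjHom conjHom_apply conjHom_quadratic)
open Cfsg.Agent.Lib.Helper59 (conj_mem_imp_mem_normalizer)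

section qdgrp

universe u

variable {G : Type u} [Group G] [Finite G] {p : ℕ} [Fact p.Prime]

theorem closure_pair_subtype_eq_top (L : Subgroup G) (a b : G) (hL : L = Subgroup.closure {a, b})
    (ha : a ∈ L) (hb : b ∈ L) :
    Subgroup.closure ({⟨a, ha⟩, ⟨b, hb⟩} : Set ↥L) = ⊤ := by
  apply Subgroup.map_injective L.subtype_injective
  rw [MonoidHom.map_closure, ← MonoidHom.range_eq_map, Subgroup.range_subtype, Set.image_pair]
  exact hL.symm

/-- **Quadratic pairs give natural `SL₂(p)`-modules** (subgroup form).  `V` elementary abelian,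
`a`, `b` normalizing `V` and acting quadratically, `V` irreducible under `⟨a, b⟩`, and some
`p'`-element of `⟨a, b⟩` acting nontrivially. -/
theorem exists_natural_module_of_quad_pair (hp2 : p ≠ 2) (V : Subgroup G)
    (hV : IsElementaryAbelian p V) (a b : G)
    (ha : a ∈ Subgroup.normalizer (V : Set G)) (hb : b ∈ Subgroup.normalizer (V : Set G))
    (hqa : ⁅⁅V, Subgroup.zpowers a⁆, Subgroup.zpowers a⁆ = ⊥)
    (hqb : ⁅⁅V, Subgroup.zpowers b⁆, Subgroup.zpowers b⁆ = ⊥)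
    (hirr : ∀ U : Subgroup G, U ≤ V → a ∈ Subgroup.normalizer (U : Set G) →
      b ∈ Subgroup.normalizer (U : Set G) → U = ⊥ ∨ U = V)
    (y : G) (hy : y ∈ Subgroup.closure ({a, b} : Set G)) (hyc : (orderOf y).Coprime p)
    (hyV : y ∉ Subgroup.centralizer (V : Set G)) :
    ∃ W₀ M : Subgroup G, IsNaturalSL2Module (ZMod p) W₀ M := by
  classical
  obtain ⟨L, hL⟩ : ∃ L : Subgroup G, L = Subgroup.closure ({a, b} : Set G) := ⟨_, rfl⟩
  have haL : a ∈ L := hL ▸ Subgroup.subset_closure (Set.mem_insert a _)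
  have hbL : b ∈ L := hL ▸ Subgroup.subset_closure (Set.mem_insert_of_mem a (Set.mem_singleton _))
  have hLN : L ≤ Subgroup.normalizer (V : Set G) := by
    rw [hL, Subgroup.closure_le]
    intro x hx
    rcases hx with rfl | hx
    · exact ha
    · rw [Set.mem_singleton_iff] at hx
      subst hx
      exact hb
  have hVc := hV.1
  let cg : CommGroup ↥V :=
    { (inferInstance : Group ↥V) with mul_comm := fun x y => mul_comm' x y }
  have hVp : ∀ x : ↥V, x ^ p = 1 := fun x => Subtype.ext (hV.2 x x.2)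
  have hgen := closure_pair_subtype_eq_top L a b hL haL hbL
  have hirr' : ∀ U : Subgroup ↥V, (∀ u ∈ U, conjHom V L hLN ⟨a, haL⟩ u ∈ U) →
      (∀ u ∈ U, conjHom V L hLN ⟨b, hbL⟩ u ∈ U) → U = ⊥ ∨ U = ⊤ := by
    intro U hUa hUb
    have h1 : a ∈ Subgroup.normalizer ((U.map V.subtype : Subgroup G) : Set G) := by
      apply conj_mem_imp_mem_normalizer
      rintro x ⟨u, hu, rfl⟩
      exact ⟨conjHom V L hLN ⟨a, haL⟩ u, hUa u hu, rfl⟩
    have h2 : b ∈ Subgroup.normalizer ((U.map V.subtype : Subgroup G) : Set G) := by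
      apply conj_mem_imp_mem_normalizer
      rintro x ⟨u, hu, rfl⟩
      exact ⟨conjHom V L hLN ⟨b, hbL⟩ u, hUb u hu, rfl⟩
    rcases hirr (U.map V.subtype) (Subgroup.map_subtype_le U) h1 h2 with h | h
    · left
      exact (Subgroup.map_eq_bot_iff_of_injective U V.subtype_injective).mp h
    · right
      rw [eq_top_iff]
      intro x _
      have hx : (x : G) ∈ U.map V.subtype := by rw [h]; exact x.2
      obtain ⟨u, hu, hux⟩ := hx
      have hux' : u = x := Subtype.ext hux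
      exact hux' ▸ hu
  have hnp : ∃ y' : ↥L, ∀ j : ℕ, conjHom V L hLN (y' ^ p ^ j) ≠ 1 := by
    refine ⟨⟨y, hL ▸ hy⟩, fun j hj => hyV ?_⟩
    have h1 : y ^ p ^ j ∈ Subgroup.centralizer (V : Set G) := by
      rw [Subgroup.mem_centralizer_iff]
      intro v hv
      have h2 := congrArg (fun f : MulAut ↥V => ((f ⟨v, hv⟩ : ↥V) : G)) hj
      simp only [conjHom_apply, MulAut.one_apply, Subgroup.coe_pow] at h2
      calc v * y ^ p ^ j = (y ^ p ^ j * v * (y ^ p ^ j)⁻¹) * y ^ p ^ j := by rw [h2]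
        _ = y ^ p ^ j * v := by group
    have hcop : (p ^ j).Coprime (orderOf y) := Nat.Coprime.pow_left j hyc.symm
    obtain ⟨k, hk⟩ := exists_pow_eq_self_of_coprime hcop
    rw [← hk]
    exact Subgroup.pow_mem _ h1 k
  obtain ⟨x₁, y₁, w₁, w₂, hind, h1, h2, h3, h4⟩ :=
    @exists_natural_pair_mul p _ ↥L _ ↥V cg _ hp2 hVp (conjHom V L hLN) ⟨a, haL⟩ ⟨b, hbL⟩ hgen
      (conjHom_quadratic V L hLN ⟨a, haL⟩ hqa) (conjHom_quadratic V L hLN ⟨b, hbL⟩ hqb) hirr' hnp
  -- translate to `G`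
  have e1 : (x₁ : G) * (w₁ : G) * (x₁ : G)⁻¹ = (w₁ : G) := congrArg Subtype.val h1
  have e2 : (x₁ : G) * (w₂ : G) * (x₁ : G)⁻¹ = (w₁ : G) * (w₂ : G) := congrArg Subtype.val h2
  have e3 : (y₁ : G) * (w₁ : G) * (y₁ : G)⁻¹ = (w₁ : G) * (w₂ : G) := congrArg Subtype.val h3
  have e4 : (y₁ : G) * (w₂ : G) * (y₁ : G)⁻¹ = (w₂ : G) := congrArg Subtype.val h4
  obtain ⟨W₀, hW₀⟩ : ∃ W₀ : Subgroup G, W₀ = Subgroup.closure ({(w₁ : G), (w₂ : G)} : Set G) :=
    ⟨_, rfl⟩
  obtain ⟨M, hM⟩ : ∃ M : Subgroup G, M = Subgroup.closure ({(x₁ : G), (y₁ : G)} : Set G) :=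
    ⟨_, rfl⟩
  have hu₁ : (w₁ : G) ∈ W₀ := hW₀ ▸ Subgroup.subset_closure (Set.mem_insert _ _)
  have hu₂ : (w₂ : G) ∈ W₀ :=
    hW₀ ▸ Subgroup.subset_closure (Set.mem_insert_of_mem _ (Set.mem_singleton _))
  have hX₁ : (x₁ : G) ∈ M := hM ▸ Subgroup.subset_closure (Set.mem_insert _ _)
  have hY₁ : (y₁ : G) ∈ M :=
    hM ▸ Subgroup.subset_closure (Set.mem_insert_of_mem _ (Set.mem_singleton _))
  have hW₀V : W₀ ≤ V := by
    rw [hW₀, Subgroup.closure_le]
    intro x hx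
    rcases hx with rfl | hx
    · exact w₁.2
    · rw [Set.mem_singleton_iff] at hx
      subst hx
      exact w₂.2
  have hnormgen : ∀ g : G, g * (w₁ : G) * g⁻¹ ∈ W₀ → g * (w₂ : G) * g⁻¹ ∈ W₀ →
      g ∈ Subgroup.normalizer (W₀ : Set G) := by
    intro g hg1 hg2
    apply conj_mem_imp_mem_normalizer
    intro x hx
    rw [hW₀] at hx
    induction hx using Subgroup.closure_induction with
    | mem z hz =>
      rcases hz with rfl | hz
      · exact hg1
      · rw [Set.mem_singleton_iff] at hz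
        subst hz
        exact hg2
    | one => simp
    | mul z z' _ _ hz hz' =>
      have : g * (z * z') * g⁻¹ = (g * z * g⁻¹) * (g * z' * g⁻¹) := by group
      rw [this]
      exact W₀.mul_mem hz hz'
    | inv z _ hz =>
      have : g * z⁻¹ * g⁻¹ = (g * z * g⁻¹)⁻¹ := by group
      rw [this]
      exact W₀.inv_mem hz
  have hMW₀ : M ≤ Subgroup.normalizer (W₀ : Set G) := by
    rw [hM, Subgroup.closure_le]
    intro x hx
    rcases hx with rfl | hx
    · exact hnormgen _ (by rw [e1]; exact hu₁) (by rw [e2]; exact W₀.mul_mem hu₁ hu₂)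
    · rw [Set.mem_singleton_iff] at hx
      subst hx
      exact hnormgen _ (by rw [e3]; exact W₀.mul_mem hu₁ hu₂) (by rw [e4]; exact hu₂)
  let cg' : CommGroup ↥W₀ :=
    { (inferInstance : Group ↥W₀) with
      mul_comm := fun x y => Subtype.ext (by
        have h := congrArg (Subtype.val : ↥V → G)
          (mul_comm' (⟨x, hW₀V x.2⟩ : ↥V) ⟨y, hW₀V y.2⟩)
        exact h) }
  have hexp : ∀ x : ↥W₀, x ^ p = 1 := fun x => Subtype.ext (hV.2 x (hW₀V x.2))
  have hgen' := closure_pair_subtype_eq_top M (x₁ : G) (y₁ : G) hM hX₁ hY₁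
  have hspan' := closure_pair_subtype_eq_top W₀ (w₁ : G) (w₂ : G) hW₀ hu₁ hu₂
  have hind' : ∀ m n : ℕ, (⟨(w₁ : G), hu₁⟩ : ↥W₀) ^ m * (⟨(w₂ : G), hu₂⟩ : ↥W₀) ^ n = 1 →
      p ∣ m ∧ p ∣ n := by
    intro m n hmn
    apply hind m n
    apply Subtype.ext
    have := congrArg Subtype.val hmn
    exact this
  obtain ⟨φ, ψ, hφ, hcompat⟩ := @exists_sl2_natural p _ ↥M _ ↥W₀ cg' hexp (conjHom W₀ M hMW₀)
    ⟨(x₁ : G), hX₁⟩ ⟨(y₁ : G), hY₁⟩ hgen' ⟨(w₁ : G), hu₁⟩ ⟨(w₂ : G), hu₂⟩ hspan' hind'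
    (Subtype.ext e1) (Subtype.ext e2) (Subtype.ext e3) (Subtype.ext e4)
  refine ⟨W₀, M, hMW₀, φ, ψ, hφ, ?_, ?_⟩
  · ext l
    rw [MonoidHom.mem_ker, Subgroup.mem_subgroupOf, Subgroup.mem_centralizer_iff]
    constructor
    · intro hl v hv
      have h5 := hcompat l ⟨v, hv⟩
      rw [hl] at h5
      have h5' : ψ (Additive.ofMul (conjHom W₀ M hMW₀ l ⟨v, hv⟩)) =
          ψ (Additive.ofMul (⟨v, hv⟩ : ↥W₀)) := by
        rw [h5]
        exact Matrix.one_mulVec _
      have h6 : conjHom W₀ M hMW₀ l ⟨v, hv⟩ = ⟨v, hv⟩ := ψ.injective h5'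
      have h7 : (l : G) * v * (l : G)⁻¹ = v := congrArg Subtype.val h6
      calc v * (l : G) = ((l : G) * v * (l : G)⁻¹) * (l : G) := by rw [h7]
        _ = (l : G) * v := by group
    · intro hl
      have h5 : ∀ v : ↥W₀, conjHom W₀ M hMW₀ l v = v := by
        intro v
        apply Subtype.ext
        rw [conjHom_apply, ← hl v v.2]
        group
      have h6 : ∀ c : Fin 2 → ZMod p, ((φ l : SpecialLinearGroup (Fin 2) (ZMod p)) :
          Matrix (Fin 2) (Fin 2) (ZMod p)).mulVec c = c := by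
        intro c
        have h7 := hcompat l (Additive.toMul (ψ.symm c))
        rw [h5] at h7
        have h8 : ψ (Additive.ofMul (Additive.toMul (ψ.symm c))) = c := ψ.apply_symm_apply c
        rw [h8] at h7
        exact h7.symm
      apply Subtype.ext
      apply Matrix.mulVec_injective
      funext c
      rw [h6]
      exact (Matrix.one_mulVec c).symm
  · intro l v
    exact ⟨conjHom W₀ M hMW₀ l v, rfl, hcompat l v⟩

end qdgrp

end Cfsg.Agent.Lib.Helper2
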