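import Mathlib
import Cfsg.Agent.Lib.Helper2.QdGrp
import Cfsg.Agent.Lib.Helper2.NPC

set_option autoImplicit false

namespace Cfsg.Agent.Lib.Helper2

open Cfsg
open Cfsg.Agent.Lib.Helper59 (conj_mem_imp_mem_normalizer isMulCommutative_of_mul_comm)

section qdred

universe u

variable {X : Type u} [Group X]

theorem conj_pow_of_comm (y w : X)
    (hc : y * (y * w * y⁻¹ * w⁻¹) = (y * w * y⁻¹ * w⁻¹) * y) (n : ℕ) :
    y ^ n * w * (y ^ n)⁻¹ = (y * w * y⁻¹ * w⁻¹) ^ n * w := by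
  obtain ⟨c, hcdef⟩ : ∃ c, c = y * w * y⁻¹ * w⁻¹ := ⟨_, rfl⟩
  rw [← hcdef] at hc ⊢
  have hyw : y * w * y⁻¹ = c * w := by rw [hcdef]; group
  induction n with
  | zero => simp
  | succ n ih =>
    have h1 : y ^ (n + 1) * w * (y ^ (n + 1))⁻¹ = y * (y ^ n * w * (y ^ n)⁻¹) * y⁻¹ := by
      rw [pow_succ']; group
    have h2 : y * c ^ n = c ^ n * y := (Commute.pow_right (show Commute y c from hc) n).eq
    rw [h1, ih]
    calc y * (c ^ n * w) * y⁻¹ = (y * c ^ n) * (w * y⁻¹) := by simp only [mul_assoc]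
      _ = c ^ n * (y * w * y⁻¹) := by rw [h2]; simp only [mul_assoc]
      _ = c ^ (n + 1) * w := by rw [hyw, pow_succ]; simp only [mul_assoc]

variable {p : ℕ} [Fact p.Prime]

/-- a `p'`-element acting trivially on `U` and on `W` modulo the `p`-group `U` centralizes `W`. -/
theorem centralizes_of_coprime (W U : Subgroup X) (hUp : IsPGroup p U) (y : X)
    (hyc : (orderOf y).Coprime p) (hyU : ∀ u ∈ U, y * u = u * y)
    (hW : ∀ w ∈ W, y * w * y⁻¹ * w⁻¹ ∈ U) : ∀ w ∈ W, y * w = w * y := by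
  intro w hw
  have hc := hW w hw
  have h1 := conj_pow_of_comm y w (hyU _ hc) (orderOf y)
  rw [pow_orderOf_eq_one, one_mul, inv_one, mul_one] at h1
  have h2 : (y * w * y⁻¹ * w⁻¹) ^ orderOf y = 1 := by
    have := congrArg (fun z => z * w⁻¹) h1
    simp only [mul_inv_cancel, mul_inv_cancel_right] at this
    exact this.symm
  obtain ⟨j, hj⟩ := hUp ⟨_, hc⟩
  have h3 : (y * w * y⁻¹ * w⁻¹) ^ p ^ j = 1 := congrArg Subtype.val hj
  have h4 : y * w * y⁻¹ * w⁻¹ = 1 := by
    have h5 := (pow_gcd_eq_one (a := y * w * y⁻¹ * w⁻¹)).mpr ⟨h2, h3⟩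
    have h6 : Nat.gcd (orderOf y) (p ^ j) = 1 := Nat.Coprime.pow_right j hyc
    rwa [h6, pow_one] at h5
  have h7 := congrArg (fun z => z * w * y) h4
  simp only [one_mul] at h7
  rw [← h7]; group

variable [Finite X]

/-- an `L`-irreducible section of a `p`-group on which a given `p'`-element acts nontrivially. -/
theorem exists_irred_section (P : Subgroup X) (hP : IsPGroup p P) (L : Subgroup X)
    (hLP : L ≤ Subgroup.normalizer (P : Set X)) (y : X) (hyc : (orderOf y).Coprime p)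
    (hyP : y ∉ Subgroup.centralizer (P : Set X)) :
    ∃ W U : Subgroup X, U ≤ W ∧ W ≤ P ∧ L ≤ Subgroup.normalizer (W : Set X) ∧
      L ≤ Subgroup.normalizer (U : Set X) ∧ W ≤ Subgroup.normalizer (U : Set X) ∧
      (∀ Q : Subgroup X, Q ≤ W → L ≤ Subgroup.normalizer (Q : Set X) → Q = W ∨ Q ≤ U) ∧
      (∃ w ∈ W, y * w * y⁻¹ * w⁻¹ ∉ U) := by
  classical
  let 𝒮 : Set (Subgroup X) := {Q | Q ≤ P ∧ L ≤ Subgroup.normalizer (Q : Set X) ∧
    y ∉ Subgroup.centralizer (Q : Set X)}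
  have hne : 𝒮.Nonempty := ⟨P, le_rfl, hLP, hyP⟩
  obtain ⟨W, hW𝒮, hWmin⟩ := WellFounded.has_min (wellFounded_lt (α := Subgroup X)) 𝒮 hne
  obtain ⟨hWP, hLW, hyW⟩ := hW𝒮
  let 𝒯 : Set (Subgroup X) := {Q | Q < W ∧ L ≤ Subgroup.normalizer (Q : Set X)}
  obtain ⟨U, hU⟩ : ∃ U : Subgroup X, U = sSup 𝒯 := ⟨_, rfl⟩
  have hmax : ∀ Q : Subgroup X, Q ≤ W → L ≤ Subgroup.normalizer (Q : Set X) → Q = W ∨ Q ≤ U := by
    intro Q hQW hLQ
    rcases eq_or_lt_of_le hQW with h | h
    · left; exact h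
    · right
      rw [hU]
      exact le_sSup ⟨h, hLQ⟩
  have hcent : ∀ Q ∈ 𝒯, ∀ q ∈ Q, y * q = q * y := by
    rintro Q ⟨hQW, hLQ⟩ q hq
    by_contra hcon
    have hQS : Q ∈ 𝒮 := by
      refine ⟨hQW.le.trans hWP, hLQ, ?_⟩
      intro hyQ
      have hyQ' : ∀ q ∈ Q, q * y = y * q := Subgroup.mem_centralizer_iff.mp hyQ
      -- the given `q` is the counterexample
      exact hcon (hyQ' q hq).symm
    exact hWmin Q hQS hQW
  have hyU : ∀ u ∈ U, y * u = u * y := by
    have hle : U ≤ Subgroup.centralizer ({y} : Set X) := by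
      rw [hU]
      apply sSup_le
      intro Q hQ q hq
      rw [Subgroup.mem_centralizer_iff]
      intro z hz
      rw [Set.mem_singleton_iff] at hz
      subst hz
      exact hcent Q hQ q hq
    intro u hu
    exact Subgroup.mem_centralizer_iff.mp (hle hu) y (Set.mem_singleton y)
  have hUW : U ≤ W := by
    rw [hU]
    exact sSup_le (fun Q hQ => hQ.1.le)
  have hLU : L ≤ Subgroup.normalizer (U : Set X) := by
    intro l hl
    apply conj_mem_imp_mem_normalizer
    have hle : sSup 𝒯 ≤ (sSup 𝒯).comap (MulAut.conj l).toMonoidHom := by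
      apply sSup_le
      intro Q hQ q hq
      rw [Subgroup.mem_comap]
      have h1 : l * q * l⁻¹ ∈ Q := (Subgroup.mem_normalizer_iff.mp (hQ.2 hl) q).mp hq
      exact (le_sSup hQ : Q ≤ sSup 𝒯) h1
    intro u hu
    rw [hU] at hu ⊢
    exact hle hu
  have hUne : U ≠ W := by
    intro h
    apply hyW
    rw [Subgroup.mem_centralizer_iff]
    intro w hw
    have hw' : w ∈ U := by rw [h]; exact hw
    exact (hyU w hw').symm
  have hWp : IsPGroup p W := hP.to_le hWP
  have hWU : W ≤ Subgroup.normalizer (U : Set X) := by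
    have hN : L ≤ Subgroup.normalizer
        ((W ⊓ Subgroup.normalizer (U : Set X) : Subgroup X) : Set X) := by
      intro l hl
      apply conj_mem_imp_mem_normalizer
      intro x hx
      obtain ⟨hxW, hxN⟩ := Subgroup.mem_inf.mp hx
      refine Subgroup.mem_inf.mpr ⟨(Subgroup.mem_normalizer_iff.mp (hLW hl) x).mp hxW, ?_⟩
      exact Subgroup.mul_mem _ (Subgroup.mul_mem _ (hLU hl) hxN) (Subgroup.inv_mem _ (hLU hl))
    rcases hmax _ inf_le_left hN with h | h
    · rw [← h]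
      exact inf_le_right
    · exfalso
      haveI : Group.IsNilpotent ↥W := hWp.isNilpotent
      have hnc := Group.normalizerCondition_of_isNilpotent (G := ↥W)
      have hlt : U.subgroupOf W < ⊤ := by
        rw [lt_top_iff_ne_top]
        intro htop
        exact hUne (le_antisymm hUW (Subgroup.subgroupOf_eq_top.mp htop))
      have h2 := hnc _ hlt
      obtain ⟨x, hxN, hxU⟩ := SetLike.exists_of_lt h2
      apply hxU
      rw [Subgroup.mem_subgroupOf]
      apply h
      refine Subgroup.mem_inf.mpr ⟨x.2, ?_⟩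
      apply conj_mem_imp_mem_normalizer
      intro u hu
      have h3 := (Subgroup.mem_normalizer_iff.mp hxN ⟨u, hUW hu⟩).mp
        (Subgroup.mem_subgroupOf.mpr hu)
      exact Subgroup.mem_subgroupOf.mp h3
  refine ⟨W, U, hUW, hWP, hLW, hLU, hWU, hmax, ?_⟩
  by_contra hcon
  have hall : ∀ w ∈ W, y * w * y⁻¹ * w⁻¹ ∈ U := by
    intro w hw
    by_contra h
    exact hcon ⟨w, hw, h⟩
  apply hyW
  rw [Subgroup.mem_centralizer_iff]
  intro w hw
  exact (centralizes_of_coprime W U (hWp.to_le hUW) y hyc hyU hall w hw).symm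

end qdred

section qdquad

universe u

variable {X : Type u} [Group X] [Finite X] {p : ℕ} [Fact p.Prime]

/-- **Quadratic pairs give `Qd(p)`** (`p` odd).  If `a`, `b` normalize the `p`-subgroup `P` and
act quadratically on it, and some `p'`-element of `⟨a, b⟩` does not centralize `P`, then `Qd(p)`
is involved in the group. -/
theorem involves_qd_of_quad (hp2 : p ≠ 2) (P : Subgroup X) (hP : IsPGroup p P) (a b : X)
    (ha : a ∈ Subgroup.normalizer (P : Set X)) (hb : b ∈ Subgroup.normalizer (P : Set X))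
    (hqa : ⁅⁅P, Subgroup.zpowers a⁆, Subgroup.zpowers a⁆ = ⊥)
    (hqb : ⁅⁅P, Subgroup.zpowers b⁆, Subgroup.zpowers b⁆ = ⊥)
    (y : X) (hy : y ∈ Subgroup.closure ({a, b} : Set X)) (hyc : (orderOf y).Coprime p)
    (hyP : y ∉ Subgroup.centralizer (P : Set X)) : Involves ↥(qd p) X := by
  classical
  obtain ⟨L, hL⟩ : ∃ L : Subgroup X, L = Subgroup.closure ({a, b} : Set X) := ⟨_, rfl⟩
  have haL : a ∈ L := hL ▸ Subgroup.subset_closure (Set.mem_insert a _)
  have hbL : b ∈ L := hL ▸ Subgroup.subset_closure (Set.mem_insert_of_mem a (Set.mem_singleton _))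
  have hyL : y ∈ L := hL ▸ hy
  have hLP : L ≤ Subgroup.normalizer (P : Set X) := by
    rw [hL, Subgroup.closure_le]
    intro x hx
    rcases hx with rfl | hx
    · exact ha
    · rw [Set.mem_singleton_iff] at hx
      subst hx
      exact hb
  obtain ⟨W, U, hUW, hWP, hLW, hLU, hWU, hmax, w₀, hw₀W, hw₀⟩ :=
    exists_irred_section P hP L hLP y hyc hyP
  obtain ⟨K, hK⟩ : ∃ K : Subgroup X, K = W ⊔ L := ⟨_, rfl⟩
  have hWK : W ≤ K := hK ▸ le_sup_left
  have hLK : L ≤ K := hK ▸ le_sup_right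
  have hKU : K ≤ Subgroup.normalizer (U : Set X) := by
    rw [hK]; exact sup_le hWU hLU
  haveI hUn : (U.subgroupOf K).Normal := Subgroup.normal_subgroupOf_of_le_normalizer hKU
  obtain ⟨π, hπdef⟩ : ∃ π : ↥K →* ↥K ⧸ U.subgroupOf K, π = QuotientGroup.mk' (U.subgroupOf K) :=
    ⟨_, rfl⟩
  have hπ1 : ∀ x : ↥K, π x = 1 ↔ (x : X) ∈ U := by
    intro x
    rw [hπdef, QuotientGroup.mk'_apply, QuotientGroup.eq_one_iff, Subgroup.mem_subgroupOf]
  obtain ⟨V, hV⟩ : ∃ V : Subgroup (↥K ⧸ U.subgroupOf K), V = (W.subgroupOf K).map π := ⟨_, rfl⟩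
  have hVmem : ∀ v, v ∈ V ↔ ∃ w : ↥K, (w : X) ∈ W ∧ π w = v := by
    intro v
    rw [hV, Subgroup.mem_map]
    constructor
    · rintro ⟨w, hw, rfl⟩
      exact ⟨w, Subgroup.mem_subgroupOf.mp hw, rfl⟩
    · rintro ⟨w, hw, rfl⟩
      exact ⟨w, Subgroup.mem_subgroupOf.mpr hw, rfl⟩
  obtain ⟨a', ha'⟩ : ∃ a' : ↥K, (a' : X) = a := ⟨⟨a, hLK haL⟩, rfl⟩
  obtain ⟨b', hb'⟩ : ∃ b' : ↥K, (b' : X) = b := ⟨⟨b, hLK hbL⟩, rfl⟩
  obtain ⟨y', hy'⟩ : ∃ y' : ↥K, (y' : X) = y := ⟨⟨y, hLK hyL⟩, rfl⟩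
  -- normalizers
  have hnorm : ∀ g : ↥K, (g : X) ∈ Subgroup.normalizer (W : Set X) →
      π g ∈ Subgroup.normalizer (V : Set (↥K ⧸ U.subgroupOf K)) := by
    intro g hg
    have h1 : g ∈ Subgroup.normalizer ((W.subgroupOf K : Subgroup ↥K) : Set ↥K) := by
      rw [Subgroup.mem_normalizer_iff]
      intro h
      rw [Subgroup.mem_subgroupOf, Subgroup.mem_subgroupOf]
      exact Subgroup.mem_normalizer_iff.mp hg (h : X)
    rw [hV]
    exact Subgroup.le_normalizer_map π ⟨g, h1, rfl⟩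
  have haN := hnorm a' (by rw [ha']; exact hLW haL)
  have hbN := hnorm b' (by rw [hb']; exact hLW hbL)
  -- quadratic action
  have hquad : ∀ g : ↥K, ⁅⁅P, Subgroup.zpowers (g : X)⁆, Subgroup.zpowers (g : X)⁆ = ⊥ →
      ⁅⁅V, Subgroup.zpowers (π g)⁆, Subgroup.zpowers (π g)⁆ = ⊥ := by
    intro g hg
    have hz : Subgroup.zpowers (π g) = (Subgroup.zpowers g).map π :=
      (MonoidHom.map_zpowers π g).symm
    have h1 : ⁅⁅W.subgroupOf K, Subgroup.zpowers g⁆, Subgroup.zpowers g⁆ = ⊥ := by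
      apply Subgroup.map_injective K.subtype_injective
      rw [Subgroup.map_commutator, Subgroup.map_commutator, Subgroup.map_bot,
        MonoidHom.map_zpowers, Subgroup.subgroupOf_map_subtype, eq_bot_iff, ← hg]
      exact Subgroup.commutator_mono
        (Subgroup.commutator_mono (inf_le_left.trans hWP) le_rfl) le_rfl
    rw [hV, hz, ← Subgroup.map_commutator, ← Subgroup.map_commutator, h1, Subgroup.map_bot]
  have hqa' := hquad a' (by rw [ha']; exact hqa)
  have hqb' := hquad b' (by rw [hb']; exact hqb)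
  -- the `p'`-element
  have hy'mem : π y' ∈ Subgroup.closure ({π a', π b'} : Set (↥K ⧸ U.subgroupOf K)) := by
    have h1 : y' ∈ Subgroup.closure ({a', b'} : Set ↥K) := by
      have h2 : (Subgroup.closure ({a', b'} : Set ↥K)).map K.subtype =
          Subgroup.closure ({a, b} : Set X) := by
        rw [MonoidHom.map_closure, Set.image_pair]
        show Subgroup.closure {(a' : X), (b' : X)} = _
        rw [ha', hb']
      have h3 : y ∈ (Subgroup.closure ({a', b'} : Set ↥K)).map K.subtype := by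
        rw [h2]; exact hy
      obtain ⟨z, hz, hzy⟩ := h3
      have hzy' : z = y' := Subtype.ext (hzy.trans hy'.symm)
      exact hzy' ▸ hz
    have h4 : Subgroup.closure ({π a', π b'} : Set (↥K ⧸ U.subgroupOf K)) =
        (Subgroup.closure ({a', b'} : Set ↥K)).map π := by
      rw [MonoidHom.map_closure, Set.image_pair]
    rw [h4]
    exact ⟨y', h1, rfl⟩
  have hyc' : (orderOf (π y')).Coprime p := by
    apply Nat.Coprime.coprime_dvd_left (orderOf_map_dvd π y')
    rw [← Subgroup.orderOf_coe, hy']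
    exact hyc
  have hyV : π y' ∉ Subgroup.centralizer (V : Set (↥K ⧸ U.subgroupOf K)) := by
    intro hcen
    apply hw₀
    obtain ⟨w', hw'⟩ : ∃ w' : ↥K, (w' : X) = w₀ := ⟨⟨w₀, hWK hw₀W⟩, rfl⟩
    have h5 : π w' ∈ V := (hVmem _).mpr ⟨w', by rw [hw']; exact hw₀W, rfl⟩
    have h6 := Subgroup.mem_centralizer_iff.mp hcen (π w') h5
    have h7 : π (y' * w' * y'⁻¹ * w'⁻¹) = 1 := by
      rw [map_mul, map_mul, map_mul, map_inv, map_inv, ← h6]; group
    have h8 := (hπ1 _).mp h7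
    simp only [Subgroup.coe_mul, Subgroup.coe_inv, hy', hw'] at h8
    exact h8
  -- irreducibility
  have hirr : ∀ U' : Subgroup (↥K ⧸ U.subgroupOf K), U' ≤ V →
      π a' ∈ Subgroup.normalizer (U' : Set (↥K ⧸ U.subgroupOf K)) →
      π b' ∈ Subgroup.normalizer (U' : Set (↥K ⧸ U.subgroupOf K)) → U' = ⊥ ∨ U' = V := by
    intro U' hU'V haU' hbU'
    obtain ⟨Q, hQ⟩ : ∃ Q : Subgroup X, Q = (U'.comap π).map K.subtype := ⟨_, rfl⟩
    have hQW : Q ≤ W := by
      rw [hQ]
      rintro x ⟨k, hk, rfl⟩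
      have hkV : π k ∈ V := hU'V hk
      obtain ⟨w, hwW, hwk⟩ := (hVmem _).mp hkV
      have h1 : π (w⁻¹ * k) = 1 := by rw [map_mul, map_inv, hwk, inv_mul_cancel]
      have h2 : ((w⁻¹ * k : ↥K) : X) ∈ U := (hπ1 _).mp h1
      have h3 : (k : X) = (w : X) * ((w⁻¹ * k : ↥K) : X) := by
        simp only [Subgroup.coe_mul, Subgroup.coe_inv]; group
      show (k : X) ∈ W
      rw [h3]
      exact W.mul_mem hwW (hUW h2)
    have hgen : ∀ g : ↥K, π g ∈ Subgroup.normalizer (U' : Set (↥K ⧸ U.subgroupOf K)) →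
        (g : X) ∈ Subgroup.normalizer (Q : Set X) := by
      intro g hg
      apply conj_mem_imp_mem_normalizer
      rw [hQ]
      rintro q ⟨k, hk, rfl⟩
      refine ⟨g * k * g⁻¹, ?_, rfl⟩
      show π (g * k * g⁻¹) ∈ U'
      rw [map_mul, map_mul, map_inv]
      exact (Subgroup.mem_normalizer_iff.mp hg (π k)).mp hk
    have hLQ : L ≤ Subgroup.normalizer (Q : Set X) := by
      rw [hL, Subgroup.closure_le]
      intro x hx
      rcases hx with rfl | hx
      · have := hgen a' haU'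
        rwa [ha'] at this
      · rw [Set.mem_singleton_iff] at hx
        subst hx
        have := hgen b' hbU'
        rwa [hb'] at this
    rcases hmax Q hQW hLQ with h | h
    · right
      apply le_antisymm hU'V
      intro v hv
      obtain ⟨w, hwW, rfl⟩ := (hVmem v).mp hv
      have hwQ : (w : X) ∈ Q := by rw [h]; exact hwW
      rw [hQ] at hwQ
      obtain ⟨k, hk, hkw⟩ := hwQ
      have hkw' : k = w := Subtype.ext hkw
      exact hkw' ▸ hk
    · left
      rw [eq_bot_iff]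
      intro u hu
      obtain ⟨w, hwW, rfl⟩ := (hVmem u).mp (hU'V hu)
      have hwQ : (w : X) ∈ Q := by
        rw [hQ]; exact ⟨w, hu, rfl⟩
      exact Subgroup.mem_bot.mpr ((hπ1 w).mpr (h hwQ))
  -- `V` is elementary abelian
  have hVp : IsPGroup p V := by
    rw [hV]
    exact ((hP.to_le hWP).comap_subtype).map π
  have hVne : V ≠ ⊥ := by
    intro h
    apply hyV
    rw [h, Subgroup.mem_centralizer_iff]
    intro v hv
    have hv1 : v = 1 := hv
    rw [hv1, one_mul, mul_one]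
  have hcentN : ∀ n, n ∈ Subgroup.normalizer (V : Set (↥K ⧸ U.subgroupOf K)) →
      n ∈ Subgroup.normalizer
        ((V ⊓ Subgroup.centralizer (V : Set (↥K ⧸ U.subgroupOf K)) :
          Subgroup (↥K ⧸ U.subgroupOf K)) : Set (↥K ⧸ U.subgroupOf K)) := by
    intro n hn
    apply conj_mem_imp_mem_normalizer
    intro z hz
    obtain ⟨hzV, hzC⟩ := Subgroup.mem_inf.mp hz
    refine Subgroup.mem_inf.mpr ⟨(Subgroup.mem_normalizer_iff.mp hn z).mp hzV, ?_⟩
    rw [Subgroup.mem_centralizer_iff]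
    intro v hv
    have hv' : n⁻¹ * v * n ∈ V := (Subgroup.mem_normalizer_iff''.mp hn v).mp hv
    have h1 := Subgroup.mem_centralizer_iff.mp hzC _ hv'
    calc v * (n * z * n⁻¹) = n * ((n⁻¹ * v * n) * z) * n⁻¹ := by group
      _ = n * (z * (n⁻¹ * v * n)) * n⁻¹ := by rw [h1]
      _ = n * z * n⁻¹ * v := by group
  have hVcomm : ∀ v ∈ V, ∀ v' ∈ V, v * v' = v' * v := by
    rcases hirr _ inf_le_left (hcentN _ haN) (hcentN _ hbN) with h | h
    · exfalso
      haveI : Nontrivial ↥V := (Subgroup.nontrivial_iff_ne_bot V).mpr hVne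
      haveI := hVp.center_nontrivial
      obtain ⟨z, hz⟩ := exists_ne (1 : Subgroup.center ↥V)
      have hzmem : ((z : ↥V) : ↥K ⧸ U.subgroupOf K) ∈
          V ⊓ Subgroup.centralizer (V : Set (↥K ⧸ U.subgroupOf K)) := by
        refine Subgroup.mem_inf.mpr ⟨(z : ↥V).2, ?_⟩
        rw [Subgroup.mem_centralizer_iff]
        intro v hv
        have h1 := Subgroup.mem_center_iff.mp z.2 ⟨v, hv⟩
        exact congrArg Subtype.val h1
      rw [h, Subgroup.mem_bot] at hzmem
      apply hz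
      apply Subtype.ext
      apply Subtype.ext
      exact hzmem
    · intro v hv v' hv'
      have hv'' : v' ∈ V ⊓ Subgroup.centralizer (V : Set (↥K ⧸ U.subgroupOf K)) := by
        rw [h]; exact hv'
      exact (Subgroup.mem_centralizer_iff.mp (Subgroup.mem_inf.mp hv'').2 v hv)
  obtain ⟨Ω, hΩ⟩ : ∃ Ω : Subgroup (↥K ⧸ U.subgroupOf K), ∀ v, v ∈ Ω ↔ v ∈ V ∧ v ^ p = 1 := by
    refine ⟨{ carrier := {v | v ∈ V ∧ v ^ p = 1}
              mul_mem' := ?_
              one_mem' := ⟨V.one_mem, one_pow p⟩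
              inv_mem' := ?_ }, fun v => Iff.rfl⟩
    · rintro v v' ⟨hv, hvp⟩ ⟨hv', hvp'⟩
      refine ⟨V.mul_mem hv hv', ?_⟩
      rw [(show Commute v v' from hVcomm v hv v' hv').mul_pow, hvp, hvp', one_mul]
    · rintro v ⟨hv, hvp⟩
      exact ⟨V.inv_mem hv, by rw [inv_pow, hvp, inv_one]⟩
  have hΩN : ∀ n, n ∈ Subgroup.normalizer (V : Set (↥K ⧸ U.subgroupOf K)) →
      n ∈ Subgroup.normalizer (Ω : Set (↥K ⧸ U.subgroupOf K)) := by
    intro n hn
    apply conj_mem_imp_mem_normalizer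
    intro z hz
    obtain ⟨hzV, hzp⟩ := (hΩ z).mp hz
    refine (hΩ _).mpr ⟨(Subgroup.mem_normalizer_iff.mp hn z).mp hzV, ?_⟩
    rw [conj_pow, hzp, mul_one, mul_inv_cancel]
  have hΩV : Ω ≤ V := fun v hv => ((hΩ v).mp hv).1
  have hVexp : ∀ v ∈ V, v ^ p = 1 := by
    rcases hirr Ω hΩV (hΩN _ haN) (hΩN _ hbN) with h | h
    · exfalso
      obtain ⟨n, hn⟩ := IsPGroup.iff_card.mp hVp
      have hn0 : n ≠ 0 := by
        rintro rfl
        rw [pow_zero] at hn
        exact hVne ((Subgroup.card_eq_one).mp hn)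
      have hdvd : p ∣ Nat.card ↥V := by
        rw [hn]; exact dvd_pow_self p hn0
      obtain ⟨x, hx⟩ := exists_prime_orderOf_dvd_card' p hdvd
      have hxΩ : (x : ↥K ⧸ U.subgroupOf K) ∈ Ω := by
        refine (hΩ _).mpr ⟨x.2, ?_⟩
        have h1 : x ^ p = 1 := by rw [← hx]; exact pow_orderOf_eq_one x
        have h2 := congrArg (Subtype.val : ↥V → ↥K ⧸ U.subgroupOf K) h1
        exact h2
      rw [h, Subgroup.mem_bot] at hxΩ
      have hx1 : x = 1 := Subtype.ext hxΩ
      rw [hx1, orderOf_one] at hx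
      exact (Fact.out : p.Prime).one_lt.ne hx
    · intro v hv
      have hv' : v ∈ Ω := by rw [h]; exact hv
      exact ((hΩ v).mp hv').2
  have hVel : IsElementaryAbelian p V := ⟨isMulCommutative_of_mul_comm hVcomm, hVexp⟩
  obtain ⟨W₀, M, hWM⟩ := exists_natural_module_of_quad_pair hp2 V hVel (π a') (π b') haN hbN
    hqa' hqb' hirr (π y') hy'mem hyc' hyV
  have h1 : Involves ↥(qd p) (↥K ⧸ U.subgroupOf K) := involves_qd_of_natural hp2 W₀ M hWM
  exact involves_of_subgroup K (involves_of_quotient _ h1)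

end qdquad

end Cfsg.Agent.Lib.Helper2
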