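import Mathlib
import Cfsg.Agent.Lib.Helper2.QdRed
import Cfsg.Agent.S0199

set_option autoImplicit false

namespace Cfsg.Agent.Lib.Helper2

open Cfsg
open scoped commutatorElement

section bs

variable {p : ℕ} [Fact p.Prime]

/-- Baer–Suzuki in the form used here: a `p`-element of a quotient outside `O_p` generates with
a suitable conjugate a subgroup containing a `p'`-element acting nontrivially. -/
theorem exists_coprime_of_not_mem_pCore {Γ : Type*} [Group Γ] [Finite Γ] {Q : Type*} [Group Q]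
    [Finite Q] (π : Γ →* Q) (hπ : Function.Surjective π) (g : Γ)
    (hgp : ∃ k : ℕ, π g ^ p ^ k = 1) (hg : π g ∉ pCore p Q) :
    ∃ h : Γ, ∃ y ∈ Subgroup.closure ({g, h * g * h⁻¹} : Set Γ),
      (orderOf y).Coprime p ∧ π y ≠ 1 := by
  classical
  have hpp : p.Prime := Fact.out
  obtain ⟨X₀, hX₀⟩ : ∃ X₀ : Subgroup Q, X₀ = Subgroup.zpowers (π g) := ⟨_, rfl⟩
  have hXp : IsPGroup p X₀ := by
    obtain ⟨k, hk⟩ := hgp
    have h1 : orderOf (π g) ∣ p ^ k := orderOf_dvd_of_pow_eq_one hk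
    obtain ⟨j, -, hj⟩ := (Nat.dvd_prime_pow hpp).1 h1
    rw [hX₀]
    apply IsPGroup.of_card (n := j)
    rw [Nat.card_zpowers, hj]
  by_contra hcon
  apply hg
  have hall : ∀ q : Q, IsPGroup p ↥(X₀ ⊔ X₀.map (MulAut.conj q).toMonoidHom) := by
    intro q
    obtain ⟨h, rfl⟩ := hπ q
    have hXg : X₀.map (MulAut.conj (π h)).toMonoidHom =
        Subgroup.zpowers (π (h * g * h⁻¹)) := by
      rw [hX₀, MonoidHom.map_zpowers, map_mul, map_mul, map_inv]
      rfl
    have hsup : X₀ ⊔ X₀.map (MulAut.conj (π h)).toMonoidHom =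
        (Subgroup.closure ({g, h * g * h⁻¹} : Set Γ)).map π := by
      rw [hXg, hX₀, MonoidHom.map_closure, Set.image_pair, Subgroup.zpowers_eq_closure,
        Subgroup.zpowers_eq_closure, ← Subgroup.closure_union]
      rfl
    rw [hsup]
    rintro ⟨z, ⟨l, hl, rfl⟩⟩
    obtain ⟨e, m, hm, hem⟩ :=
      Nat.exists_eq_pow_mul_and_not_dvd (orderOf_pos l).ne' p hpp.ne_one
    have hy : l ^ p ^ e ∈ Subgroup.closure ({g, h * g * h⁻¹} : Set Γ) := Subgroup.pow_mem _ hl _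
    have hyc : (orderOf (l ^ p ^ e)).Coprime p := by
      have h1 : (l ^ p ^ e) ^ m = 1 := by rw [← pow_mul, ← hem, pow_orderOf_eq_one]
      have h2 : orderOf (l ^ p ^ e) ∣ m := orderOf_dvd_of_pow_eq_one h1
      exact Nat.Coprime.coprime_dvd_left h2 ((Nat.Prime.coprime_iff_not_dvd hpp).mpr hm).symm
    have h3 : π (l ^ p ^ e) = 1 := by
      by_contra h4
      exact hcon ⟨h, l ^ p ^ e, hy, hyc, h4⟩
    refine ⟨e, ?_⟩
    apply Subtype.ext
    rw [Subgroup.coe_pow, Subgroup.coe_one]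
    show π l ^ p ^ e = 1
    rw [← map_pow, h3]
  obtain ⟨N, hNn, hNp, hXN⟩ := Cfsg.Agent.S0199.result X₀ hXp hall
  exact (le_sSup ⟨hNn, hNp⟩ : N ≤ pCore p Q) (hXN (hX₀ ▸ Subgroup.mem_zpowers _))

end bs

section quad

variable {X : Type*} [Group X]

theorem quad_comm (P : Subgroup X) (g : X) (hg : g ∈ Subgroup.normalizer (P : Set X))
    (hquad : ⁅⁅P, Subgroup.zpowers g⁆, Subgroup.zpowers g⁆ = ⊥) (w : X) (hw : w ∈ P) :
    g * w * g⁻¹ * w⁻¹ ∈ P ∧ g * (g * w * g⁻¹ * w⁻¹) = (g * w * g⁻¹ * w⁻¹) * g := by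
  constructor
  · exact P.mul_mem ((Subgroup.mem_normalizer_iff.mp hg w).mp hw) (P.inv_mem hw)
  · have hc1 : g * w * g⁻¹ * w⁻¹ = ⁅w, g⁆⁻¹ := by
      rw [commutatorElement_def]; group
    have hc2 : g * w * g⁻¹ * w⁻¹ ∈ ⁅P, Subgroup.zpowers g⁆ := by
      rw [hc1]
      exact Subgroup.inv_mem _ (Subgroup.commutator_mem_commutator hw (Subgroup.mem_zpowers _))
    have hc3 : ⁅g * w * g⁻¹ * w⁻¹, g⁆ ∈ ⁅⁅P, Subgroup.zpowers g⁆, Subgroup.zpowers g⁆ :=
      Subgroup.commutator_mem_commutator hc2 (Subgroup.mem_zpowers _)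
    rw [hquad, Subgroup.mem_bot] at hc3
    exact (commutatorElement_eq_one_iff_mul_comm.mp hc3).symm

theorem quad_conj_sub (P : Subgroup X) (g h : X) (hh : h ∈ Subgroup.normalizer (P : Set X))
    (hquad : ⁅⁅P, Subgroup.zpowers g⁆, Subgroup.zpowers g⁆ = ⊥) :
    ⁅⁅P, Subgroup.zpowers (h * g * h⁻¹)⁆, Subgroup.zpowers (h * g * h⁻¹)⁆ = ⊥ := by
  have hmap : P.map (MulAut.conj h).toMonoidHom = P :=
    Subgroup.mem_normalizer_iff_map_conj_eq.mp hh
  have hz : Subgroup.zpowers (h * g * h⁻¹) =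
      (Subgroup.zpowers g).map (MulAut.conj h).toMonoidHom := by
    rw [MonoidHom.map_zpowers]; rfl
  have h1 : ⁅⁅P.map (MulAut.conj h).toMonoidHom, Subgroup.zpowers (h * g * h⁻¹)⁆,
      Subgroup.zpowers (h * g * h⁻¹)⁆ = ⊥ := by
    rw [hz, ← Subgroup.map_commutator, ← Subgroup.map_commutator, hquad, Subgroup.map_bot]
  rwa [hmap] at h1

end quad

section stable

universe u

variable {X : Type u} [Group X] [Finite X] {p : ℕ} [Fact p.Prime]

/-- Generic core: a quadratically acting element whose image in `N / C_N(P)` is not in `O_p`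
forces `Qd(p)` to be involved. -/
theorem involves_qd_of_not_mem_pCore (hp2 : p ≠ 2) (P : Subgroup X) (hP : IsPGroup p P)
    (N : Subgroup X) (hNP : N ≤ Subgroup.normalizer (P : Set X)) {Q : Type*} [Group Q] [Finite Q]
    (π : ↥N →* Q) (hπ : Function.Surjective π)
    (hker : ∀ x : ↥N, π x = 1 ↔ (x : X) ∈ Subgroup.centralizer (P : Set X)) (g : ↥N)
    (hquad : ⁅⁅P, Subgroup.zpowers (g : X)⁆, Subgroup.zpowers (g : X)⁆ = ⊥)
    (hnot : π g ∉ pCore p Q) : Involves ↥(qd p) X := by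
  classical
  have hgp : ∃ k : ℕ, π g ^ p ^ k = 1 := by
    obtain ⟨k, hk⟩ := IsPGroup.iff_card.mp hP
    refine ⟨k, ?_⟩
    rw [← map_pow, hker, Subgroup.coe_pow, Subgroup.mem_centralizer_iff]
    intro w hw
    obtain ⟨hcP, hc⟩ := quad_comm P (g : X) (hNP g.2) hquad w hw
    have h1 := conj_pow_of_comm (g : X) w hc (p ^ k)
    have h2 : ((g : X) * w * (g : X)⁻¹ * w⁻¹) ^ p ^ k = 1 := by
      have h3 : (⟨_, hcP⟩ : ↥P) ^ Nat.card ↥P = 1 := pow_card_eq_one'
      rw [hk] at h3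
      exact congrArg Subtype.val h3
    rw [h2, one_mul] at h1
    calc w * (g : X) ^ p ^ k = ((g : X) ^ p ^ k * w * ((g : X) ^ p ^ k)⁻¹) * (g : X) ^ p ^ k := by
          rw [h1]
      _ = (g : X) ^ p ^ k * w := by group
  obtain ⟨h, y, hy, hyc, hy1⟩ := exists_coprime_of_not_mem_pCore π hπ g hgp hnot
  refine involves_qd_of_quad hp2 P hP (g : X) ((h : X) * (g : X) * (h : X)⁻¹) (hNP g.2)
    (hNP (N.mul_mem (N.mul_mem h.2 g.2) (N.inv_mem h.2))) hquad
    (quad_conj_sub P (g : X) (h : X) (hNP h.2) hquad) (y : X) ?_ ?_ ?_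
  · have h2 : (Subgroup.closure ({g, h * g * h⁻¹} : Set ↥N)).map N.subtype =
        Subgroup.closure ({(g : X), (h : X) * (g : X) * (h : X)⁻¹} : Set X) := by
      rw [MonoidHom.map_closure, Set.image_pair]
      rfl
    rw [← h2]
    exact ⟨y, hy, rfl⟩
  · rw [Subgroup.orderOf_coe]
    exact hyc
  · intro hcen
    exact hy1 ((hker y).mpr hcen)

/-- **Glauberman**: a `Qd(p)`-free finite group (`p` odd) is `p`-stable (normalizer form). -/
theorem isNormalizerPStable_of_qd_free (hp2 : p ≠ 2) (hfree : ¬ Involves ↥(qd p) X) :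
    IsNormalizerPStable p X := by
  intro P hP g hg hquad
  by_contra hnot
  apply hfree
  refine involves_qd_of_not_mem_pCore hp2 P hP (Subgroup.normalizer (P : Set X)) le_rfl
    (QuotientGroup.mk' ((Subgroup.centralizer (P : Set X)).subgroupOf
      (Subgroup.normalizer (P : Set X)))) (QuotientGroup.mk'_surjective _) ?_ ⟨g, hg⟩ hquad hnot
  intro x
  rw [QuotientGroup.mk'_apply, QuotientGroup.eq_one_iff, Subgroup.mem_subgroupOf]

/-- a `Qd(p)`-free finite group (`p` odd) acts `p`-stably on each normal `p`-subgroup. -/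
theorem isPStableOn_of_qd_free (hp2 : p ≠ 2) (hfree : ¬ Involves ↥(qd p) X) (P : Subgroup X)
    [P.Normal] (hP : IsPGroup p P) : IsPStableOn p P := by
  intro a hquad
  by_contra hnot
  apply hfree
  have htop : (⊤ : Subgroup X) ≤ Subgroup.normalizer (P : Set X) := by
    rw [Subgroup.normalizer_eq_top]
  refine involves_qd_of_not_mem_pCore hp2 P hP ⊤ htop
    ((QuotientGroup.mk' (Subgroup.centralizer (P : Set X))).comp (⊤ : Subgroup X).subtype) ?_ ?_
    ⟨a, Subgroup.mem_top a⟩ hquad hnot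
  · intro q
    obtain ⟨x, rfl⟩ := QuotientGroup.mk'_surjective _ q
    exact ⟨⟨x, Subgroup.mem_top x⟩, rfl⟩
  · intro x
    rw [MonoidHom.comp_apply, QuotientGroup.mk'_apply, QuotientGroup.eq_one_iff]
    rfl

end stable

end Cfsg.Agent.Lib.Helper2
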