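import Mathlib
import Cfsg.Agent.Lib.Helper8.TPFront

/-!
Project TP (S4033, architect helper4, front by helper8), piece ALLC (helper2): with two
noncentral primes, every `p`-regular element of the centralizer `C` of a noncentral `p`-regular
element is central in `C`.
-/

set_option autoImplicit false

namespace Cfsg.Agent.Lib.Helper2.TP

open Cfsg.Agent.Lib.Helper8.TP

universe u

theorem allc_mem {G : Type*} [Group G] (x g : G) :
    g ∈ Subgroup.centralizer ({x} : Set G) ↔ x * g = g * x := by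
  rw [Subgroup.mem_centralizer_iff]
  simp

/-- STEP 1: the centralizer of `x` contains a noncentral `t`-element. -/
theorem allc_step1 {G : Type u} [Group G] [Finite G] (t : ℕ) (ht : t.Prime) (x y0 : G)
    (hcard : Nat.card (Subgroup.centralizer ({x} : Set G)) =
      Nat.card (Subgroup.centralizer ({y0} : Set G)))
    (hy0t : ∃ j : ℕ, orderOf y0 = t ^ j) (hy0c : y0 ∉ Subgroup.center G) :
    ∃ z ∈ Subgroup.centralizer ({x} : Set G), (∃ j : ℕ, orderOf z = t ^ j) ∧
      z ∉ Subgroup.center G := by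
  by_contra hcon
  push Not at hcon
  haveI : Fact t.Prime := ⟨ht⟩
  obtain ⟨C, hC⟩ : ∃ C : Subgroup G, C = Subgroup.centralizer ({x} : Set G) := ⟨_, rfl⟩
  rw [← hC] at hcard hcon
  have hCne : Nat.card C ≠ 0 := Nat.card_pos.ne'
  obtain ⟨a, ha⟩ : ∃ a, a = (Nat.card C).factorization t := ⟨_, rfl⟩
  have hdvd : t ^ a ∣ Nat.card C := by
    rw [ha]
    exact Nat.ordProj_dvd _ _
  obtain ⟨K, hK⟩ := Sylow.exists_subgroup_card_pow_prime t hdvd
  obtain ⟨S, hS⟩ : ∃ S : Subgroup G, S = K.map C.subtype := ⟨_, rfl⟩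
  have hScard : Nat.card S = t ^ a := by
    rw [hS, Subgroup.card_map_of_injective C.subtype_injective]
    exact hK
  have hSC : S ≤ C := by
    rw [hS]
    exact Subgroup.map_subtype_le K
  have hSp : IsPGroup t S := IsPGroup.of_card hScard
  have hSZ : S ≤ Subgroup.center G := by
    intro u hu
    apply hcon u (hSC hu)
    obtain ⟨j, hj⟩ := hSp ⟨u, hu⟩
    have hj' : u ^ t ^ j = 1 := by
      have := congrArg Subtype.val hj
      simpa using this
    obtain ⟨i, -, hi⟩ := (Nat.dvd_prime_pow ht).mp (orderOf_dvd_of_pow_eq_one hj')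
    exact ⟨i, hi⟩
  haveI hSn : S.Normal := ⟨fun u hu g => by
    have hc := hSZ hu
    rw [Subgroup.mem_center_iff] at hc
    rw [hc g, mul_inv_cancel_right]
    exact hu⟩
  have hzp : IsPGroup t (Subgroup.zpowers y0) := by
    obtain ⟨j, hj⟩ := hy0t
    exact IsPGroup.of_card (by rw [Nat.card_zpowers, hj])
  have hJp : IsPGroup t (Subgroup.zpowers y0 ⊔ S : Subgroup G) :=
    IsPGroup.to_sup_of_normal_right hzp hSp
  obtain ⟨n, hn⟩ := hJp.exists_card_eq
  have hJle : Subgroup.zpowers y0 ⊔ S ≤ Subgroup.centralizer ({y0} : Set G) := by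
    apply sup_le
    · rw [Subgroup.zpowers_le, allc_mem]
    · exact hSZ.trans (Subgroup.center_le_centralizer _)
  have hSJ : S ≤ Subgroup.zpowers y0 ⊔ S := le_sup_right
  have h1 : t ^ a ∣ t ^ n := by
    rw [← hScard, ← hn]
    exact Subgroup.card_dvd_of_le hSJ
  have han : a ≤ n := (Nat.pow_dvd_pow_iff_le_right ht.one_lt).mp h1
  have hne : a ≠ n := by
    intro h
    have heq : S = Subgroup.zpowers y0 ⊔ S :=
      Subgroup.eq_of_le_of_card_ge hSJ (by rw [hScard, hn, h])
    apply hy0c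
    apply hSZ
    rw [heq]
    exact (le_sup_left : Subgroup.zpowers y0 ≤ _) (Subgroup.mem_zpowers y0)
  have h2 : t ^ (a + 1) ∣ Nat.card C := by
    rw [hcard]
    have h3 : t ^ (a + 1) ∣ t ^ n := pow_dvd_pow t (by omega)
    rw [← hn] at h3
    exact h3.trans (Subgroup.card_dvd_of_le hJle)
  rw [ha] at h2
  exact Nat.pow_succ_factorization_not_dvd hCne ht h2

theorem allc (h1 : F1Stmt.{u}) (h2 : F2Stmt.{u}) (h3 : F3Stmt.{u}) : AllCentralStmt.{u} := by
  intro G _ _ p m q r hp hm hq hr hqr g hg hgc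
  obtain ⟨s, x, hs, hsp, hxs, hxc, hCx⟩ := h2 G p m hp hm g hg hgc
  rw [← hCx]
  obtain ⟨t, hNt, hts⟩ : ∃ t, NCPrime p t G ∧ t ≠ s := by
    by_cases hqs : q = s
    · exact ⟨r, hr, fun h => hqr (by rw [hqs, h])⟩
    · exact ⟨q, hq, hqs⟩
  obtain ⟨ht, htp, y0, hy0t, hy0c⟩ := hNt
  have hxreg : (orderOf x).Coprime p := preg_of_prime_pow hp hs hsp hxs
  have hy0reg : (orderOf y0).Coprime p := preg_of_prime_pow hp ht htp hy0t
  have hidx : ∀ w : G, (orderOf w).Coprime p → w ∉ Subgroup.center G →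
      (Subgroup.centralizer ({w} : Set G)).index = m := by
    intro w hw hwc
    rcases hm w hw with h | h
    · exact absurd (mem_center_of_index_centralizer_eq_one h) hwc
    · exact h
  have hm0 : m ≠ 0 := by
    rw [← hidx x hxreg hxc]
    exact Subgroup.index_ne_zero_of_finite
  have hcard : Nat.card (Subgroup.centralizer ({x} : Set G)) =
      Nat.card (Subgroup.centralizer ({y0} : Set G)) := by
    have e1 := Subgroup.card_mul_index (Subgroup.centralizer ({x} : Set G))
    have e2 := Subgroup.card_mul_index (Subgroup.centralizer ({y0} : Set G))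
    rw [hidx x hxreg hxc] at e1
    rw [hidx y0 hy0reg hy0c] at e2
    exact Nat.eq_of_mul_eq_mul_right (Nat.pos_of_ne_zero hm0) (e1.trans e2.symm)
  obtain ⟨z, hzC, hzt, hzc⟩ := allc_step1 t ht x y0 hcard hy0t hy0c
  have hzreg : (orderOf z).Coprime p := preg_of_prime_pow hp ht htp hzt
  have hzs : (orderOf z).Coprime s := by
    obtain ⟨j, hj⟩ := hzt
    rw [hj]
    exact Nat.Coprime.pow_left j ((Nat.coprime_primes ht hs).mpr hts)
  -- STEP 2
  have hzcent := h3 G p m s hp hm hs hsp x z hxs hxc hzreg hzs hzC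
  have hle : Subgroup.centralizer ({x} : Set G) ≤ Subgroup.centralizer ({z} : Set G) := by
    intro u hu
    rw [allc_mem]
    exact (hzcent u hu).symm
  have hCz : Subgroup.centralizer ({z} : Set G) = Subgroup.centralizer ({x} : Set G) := by
    have e := Subgroup.relIndex_mul_index hle
    rw [hidx x hxreg hxc, hidx z hzreg hzc] at e
    have e1 : (Subgroup.centralizer ({x} : Set G)).relIndex
        (Subgroup.centralizer ({z} : Set G)) = 1 := by
      have e2 : (Subgroup.centralizer ({x} : Set G)).relIndex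
          (Subgroup.centralizer ({z} : Set G)) * m = 1 * m := by rw [e, one_mul]
      exact Nat.eq_of_mul_eq_mul_right (Nat.pos_of_ne_zero hm0) e2
    exact le_antisymm (Subgroup.relIndex_eq_one.mp e1) hle
  -- STEP 3
  intro y hy hyreg h hh
  obtain ⟨n, hn⟩ : ∃ n, n = orderOf y := ⟨_, rfl⟩
  have hn0 : n ≠ 0 := by
    rw [hn]
    exact (orderOf_pos y).ne'
  obtain ⟨a, ha⟩ : ∃ a, a = n / s ^ n.factorization s := ⟨_, rfl⟩
  obtain ⟨b, hb⟩ : ∃ b, b = s ^ n.factorization s := ⟨_, rfl⟩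
  have hab : b * a = n := by
    rw [ha, hb]
    exact Nat.ordProj_mul_ordCompl_eq_self n s
  have hcop : Nat.Coprime s a := by
    rw [ha]
    exact Nat.coprime_ordCompl hs hn0
  have hyn : y ^ n = 1 := by
    rw [hn]
    exact pow_orderOf_eq_one y
  have ho1 : orderOf (y ^ a) ∣ b :=
    orderOf_dvd_of_pow_eq_one (by rw [← pow_mul, mul_comm, hab, hyn])
  have ho2 : orderOf (y ^ b) ∣ a :=
    orderOf_dvd_of_pow_eq_one (by rw [← pow_mul, hab, hyn])
  have hreg1 : (orderOf (y ^ a)).Coprime p :=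
    Nat.Coprime.coprime_dvd_left (orderOf_pow_dvd a) hyreg
  have hreg2 : (orderOf (y ^ b)).Coprime p :=
    Nat.Coprime.coprime_dvd_left (orderOf_pow_dvd b) hyreg
  have hmem1 : y ^ a ∈ Subgroup.centralizer ({x} : Set G) := Subgroup.pow_mem _ hy a
  have hmem2 : y ^ b ∈ Subgroup.centralizer ({x} : Set G) := Subgroup.pow_mem _ hy b
  have hc2 : h * y ^ b = y ^ b * h := by
    apply h3 G p m s hp hm hs hsp x (y ^ b) hxs hxc hreg2 ?_ hmem2 h hh
    exact Nat.Coprime.coprime_dvd_left ho2 hcop.symm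
  have hc1 : h * y ^ a = y ^ a * h := by
    apply h3 G p m t hp hm ht htp z (y ^ a) hzt hzc hreg1 ?_ (by rw [hCz]; exact hmem1) h
      (by rw [hCz]; exact hh)
    apply Nat.Coprime.coprime_dvd_left ho1
    rw [hb]
    exact Nat.Coprime.pow_left _ ((Nat.coprime_primes hs ht).mpr (Ne.symm hts))
  have hgcd : Nat.gcd a b = 1 := by
    rw [hb]
    exact Nat.Coprime.pow_right _ hcop.symm
  have hy' : y = (y ^ a) ^ (Nat.gcdA a b) * (y ^ b) ^ (Nat.gcdB a b) := by
    rw [← zpow_natCast y a, ← zpow_natCast y b, ← zpow_mul, ← zpow_mul, ← zpow_add,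
      ← Nat.gcd_eq_gcd_ab, hgcd, Nat.cast_one, zpow_one]
  have hC1 : Commute h ((y ^ a) ^ (Nat.gcdA a b)) :=
    (show Commute h (y ^ a) from hc1).zpow_right _
  have hC2 : Commute h ((y ^ b) ^ (Nat.gcdB a b)) :=
    (show Commute h (y ^ b) from hc2).zpow_right _
  have hfin : Commute h ((y ^ a) ^ (Nat.gcdA a b) * (y ^ b) ^ (Nat.gcdB a b)) :=
    hC1.mul_right hC2
  rw [← hy'] at hfin
  exact hfin

end Cfsg.Agent.Lib.Helper2.TP
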